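import Groth.Agent.FlatDescent.Dom.Preimage

/-!
# Flat preimages of schematically dense retrocompact opens
-/

universe u

open AlgebraicGeometry CategoryTheory CategoryTheory.Limits TopologicalSpace
open scoped TensorProduct

namespace Groth.FlatDescent.Dom

/-- Injectivity of `a ↦ (c j * a)_j` survives flat base change. -/
theorem eq_zero_of_flat_of_mul {A B : Type u} [CommRing A] [CommRing B] [Algebra A B] [Module.Flat A B]
    {J : Type u} [Fintype J] (c : J → A) (hc : ∀ a : A, (∀ j, c j * a = 0) → a = 0) (y : B)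
    (hy : ∀ j, algebraMap A B (c j) * y = 0) : y = 0 := by
  classical
  let L : A →ₗ[A] (J → A) := LinearMap.pi fun j => LinearMap.mulLeft A (c j)
  have hL : Function.Injective L := (injective_iff_map_eq_zero L).mpr fun a ha => hc a fun j => congrFun ha j
  have h := Module.Flat.lTensor_preserves_injective_linearMap (M := B) L hL
  have h0 : L.lTensor B (y ⊗ₜ 1) = 0 := by
    rw [LinearMap.lTensor_tmul]
    apply (TensorProduct.piScalarRight A A B J).injective
    rw [map_zero]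
    funext j
    rw [TensorProduct.piScalarRight_apply, TensorProduct.piScalarRightHom_tmul, Pi.zero_apply]
    show (c j * 1) • y = 0
    rw [mul_one, Algebra.smul_def]
    exact hy j
  have h1 := congrArg (TensorProduct.rid A B) (h (h0.trans (map_zero _).symm))
  rwa [TensorProduct.rid_tmul, one_smul, map_zero] at h1

/-- The preimage of a retrocompact schematically dense open under a flat morphism is schematically dense. -/
theorem isSchematicallyDense_preimage_flat {X X' : Scheme.{u}} (f : X' ⟶ X) [Flat f] (V : X.Opens)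
    [QuasiCompact V.ι] (hV : CInt.IsSchematicallyDense V) : CInt.IsSchematicallyDense (f ⁻¹ᵁ V) := by
  refine (schDom_ι_iff _).mpr (schDom_of_local _ fun x => ?_)
  obtain ⟨_, ⟨U, hU, rfl⟩, hxU, -⟩ := X.isBasis_affineOpens.exists_subset_of_mem_open (Set.mem_univ (f x)) isOpen_univ
  obtain ⟨_, ⟨U', hU', rfl⟩, hxU', hle⟩ := X'.isBasis_affineOpens.exists_subset_of_mem_open
    (show x ∈ (f ⁻¹ᵁ U : X'.Opens) from hxU) (f ⁻¹ᵁ U).isOpen
  refine ⟨U', hU', hxU', fun h y hy => ?_⟩
  obtain ⟨s, hsfin, hs⟩ : ∃ s : Set Γ(X, U), s.Finite ∧ (V ⊓ U : X.Opens) = ⨆ a ∈ s, X.basicOpen a := by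
    have hc : IsCompact ((V ⊓ U : X.Opens) : Set X) := by
      have h1 := (QuasiCompact.isCompact_preimage (f := V.ι) (U : Set X) U.isOpen hU.isCompact).image V.ι.continuous
      rwa [Set.image_preimage_eq_range_inter, Scheme.Opens.range_ι] at h1
    have hcov : ((V ⊓ U : X.Opens) : Set X) ⊆ ⋃ a : {a : Γ(X, U) // X.basicOpen a ≤ V}, (X.basicOpen a.1 : Set X) := by
      intro z hz
      obtain ⟨a, ha, hza⟩ := hU.exists_basicOpen_le (V := V) ⟨z, hz.1⟩ hz.2
      exact Set.mem_iUnion.mpr ⟨⟨a, ha⟩, hza⟩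
    obtain ⟨t, ht⟩ := hc.elim_finite_subcover (fun a : {a : Γ(X, U) // X.basicOpen a ≤ V} => (X.basicOpen a.1 : Set X)) (fun a => (X.basicOpen a.1).isOpen) hcov
    refine ⟨Subtype.val '' (t : Set {a : Γ(X, U) // X.basicOpen a ≤ V}), t.finite_toSet.image _, le_antisymm ?_ ?_⟩
    · intro z hz
      obtain ⟨a, hat, hza⟩ := Set.mem_iUnion₂.mp (ht hz)
      exact Opens.mem_iSup.mpr ⟨a.1, Opens.mem_iSup.mpr ⟨⟨a, hat, rfl⟩, hza⟩⟩
    · refine iSup₂_le ?_
      rintro _ ⟨a, -, rfl⟩
      exact le_inf a.2 (X.basicOpen_le _)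
  haveI : Finite s := hsfin.to_subtype
  letI : Fintype s := Fintype.ofFinite _
  letI : Algebra Γ(X, U) Γ(X', U') := (f.appLE U U' hle).hom.toAlgebra
  haveI : Module.Flat Γ(X, U) Γ(X', U') :=
    HasRingHomProperty.appLE (P := @Flat) f inferInstance ⟨U, hU⟩ ⟨U', hU'⟩ hle
  have key : ∀ a ∈ s, ∃ n k : ℕ, algebraMap Γ(X, U) Γ(X', U') a ^ k * (h ^ n * y) = 0 := by
    intro a ha
    let b := algebraMap Γ(X, U) Γ(X', U') a
    let C : CommRingCat.{u} := CommRingCat.of (Localization.Away b)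
    let φ : Γ(X', U') ⟶ C := CommRingCat.ofHom (algebraMap Γ(X', U') (Localization.Away b))
    have hr : Set.range (Spec.map φ ≫ hU'.fromSpec) ⊆ Set.range (f ⁻¹ᵁ V).ι := by
      rintro _ ⟨p, rfl⟩
      rw [Scheme.Opens.range_ι, Scheme.Hom.comp_apply]
      show f (hU'.fromSpec (Spec.map φ p)) ∈ V
      have hp : Spec.map φ p ∈ PrimeSpectrum.basicOpen b :=
        (Set.ext_iff.mp (PrimeSpectrum.localization_away_comap_range (Localization.Away b) b) _).mp ⟨p, rfl⟩
      have h2 : hU'.fromSpec (Spec.map φ p) ∈ X'.basicOpen b := by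
        rw [← hU'.fromSpec_image_basicOpen b]
        exact ⟨_, hp, rfl⟩
      have h3 : f (hU'.fromSpec (Spec.map φ p)) ∈ X.basicOpen a := by
        have h4 := (f.appLE U U' hle).hom
        have h5 : X'.basicOpen b ≤ f ⁻¹ᵁ X.basicOpen a := by
          show X'.basicOpen (f.appLE U U' hle a) ≤ _
          rw [Scheme.basicOpen_appLE]
          exact inf_le_right
        exact h5 h2
      have h6 : X.basicOpen a ≤ V ⊓ U := hs.symm ▸ le_iSup₂_of_le a ha le_rfl
      exact (h6 h3).1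
    obtain ⟨n, hn⟩ := hy PUnit.unit C φ (IsOpenImmersion.lift (f ⁻¹ᵁ V).ι _ hr) (IsOpenImmersion.lift_fac _ _ _)
    obtain ⟨⟨_, k, rfl⟩, hk⟩ := (IsLocalization.map_eq_zero_iff (Submonoid.powers b) (Localization.Away b) (h ^ n * y)).mp hn
    exact ⟨n, k, hk⟩
  choose n k hnk using key
  let N := Finset.univ.sup fun a : s => n a.1 a.2
  refine ⟨N, eq_zero_of_flat_of_mul (fun a : s => a.1 ^ k a.1 a.2) ?_ _ fun a => ?_⟩
  · intro e he
    refine hV U ?_
    rw [map_zero]
    refine TopCat.Presheaf.section_ext X.sheaf _ _ _ fun z hz => Eq.trans ?_ (map_zero _).symm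
    have hz' : z ∈ (V ⊓ U : X.Opens) := ⟨hz.2, hz.1⟩
    rw [hs] at hz'
    obtain ⟨a, hza⟩ := Opens.mem_iSup.mp hz'
    obtain ⟨ha, hza⟩ := Opens.mem_iSup.mp hza
    refine (X.presheaf.germ_res_apply _ z hz e).trans ?_
    have hu : IsUnit (X.presheaf.germ U z hz.1 a) := (X.mem_basicOpen a z hz.1).mp hza
    have h0 := congrArg (X.presheaf.germ U z hz.1) (he ⟨a, ha⟩)
    rw [map_mul, map_pow, map_zero] at h0
    exact ((hu.pow _).mul_right_eq_zero).mp h0
  · obtain ⟨d, hd⟩ := Nat.exists_eq_add_of_le (Finset.le_sup (f := fun a : s => n a.1 a.2) (Finset.mem_univ a))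
    show algebraMap _ _ (a.1 ^ k a.1 a.2) * (h ^ N * y) = 0
    rw [map_pow, show N = _ + d from hd, pow_add, mul_comm (h ^ n a.1 a.2), mul_assoc, mul_left_comm,
      hnk a.1 a.2, mul_zero]

end Groth.FlatDescent.Dom
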