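import Groth.Agent.FlatDescent.Dom.Scheme

/-!
# Base change of schematically dominant families
-/

universe u

open AlgebraicGeometry CategoryTheory CategoryTheory.Limits TensorProduct

namespace Groth.FlatDescent.Dom

/-- The affine pieces over `U` of a family. -/
abbrev Piece {X : Scheme.{u}} {ι : Type u} {Z : ι → Scheme.{u}} (f : ∀ i, Z i ⟶ X) (U : X.Opens) : Type u :=
  Σ i, {W : (Z i).Opens // IsAffineOpen W ∧ W ≤ f i ⁻¹ᵁ U}

/-- The sections on a piece. -/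
abbrev PieceRing {X : Scheme.{u}} {ι : Type u} {Z : ι → Scheme.{u}} {f : ∀ i, Z i ⟶ X} {U : X.Opens}
    (w : Piece f U) : Type u := Γ(Z w.1, w.2.1)

theorem isDom_pieces {X : Scheme.{u}} {ι : Type u} {Z : ι → Scheme.{u}} {f : ∀ i, Z i ⟶ X} (hf : SchDom f)
    {U : X.Opens} (hU : IsAffineOpen U) :
    letI : ∀ w : Piece f U, Algebra Γ(X, U) (PieceRing w) := fun w => ((f w.1).appLE U w.2.1 w.2.2.2).hom.toAlgebra
    IsDom Γ(X, U) (PieceRing : Piece f U → Type u) := fun b a h =>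
  pow_mul_eq_zero_of_schDom hf hU b a fun i W hW e => h ⟨i, W, hW, e⟩

/-- Flat, locally finitely presented base change preserves dominance. -/
theorem schDom_pullback_snd {X X' : Scheme.{u}} {ι : Type u} {Z : ι → Scheme.{u}} (f : ∀ i, Z i ⟶ X) (hf : SchDom f)
    (g : X' ⟶ X) [Flat g] [LocallyOfFinitePresentation g] : SchDom fun i => pullback.snd (f i) g := by
  refine schDom_of_local _ fun x => ?_
  obtain ⟨_, ⟨U, hU, rfl⟩, hxU, -⟩ := X.isBasis_affineOpens.exists_subset_of_mem_open (Set.mem_univ (g x)) isOpen_univ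
  obtain ⟨_, ⟨U', hU', rfl⟩, hxU', hle⟩ := X'.isBasis_affineOpens.exists_subset_of_mem_open
    (show x ∈ (g ⁻¹ᵁ U : X'.Opens) from hxU) (g ⁻¹ᵁ U).isOpen
  refine ⟨U', hU', hxU', fun h y hy => ?_⟩
  letI : ∀ w : Piece f U, Algebra Γ(X, U) (PieceRing w) := fun w => ((f w.1).appLE U w.2.1 w.2.2.2).hom.toAlgebra
  letI : Algebra Γ(X, U) Γ(X', U') := (g.appLE U U' hle).hom.toAlgebra
  haveI : Algebra.FinitePresentation Γ(X, U) Γ(X', U') :=
    HasRingHomProperty.appLE (P := @LocallyOfFinitePresentation) g inferInstance ⟨U, hU⟩ ⟨U', hU'⟩ hle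
  haveI : Module.Flat Γ(X, U) Γ(X', U') :=
    HasRingHomProperty.appLE (P := @Flat) g inferInstance ⟨U, hU⟩ ⟨U', hU'⟩ hle
  refine isDom_flat_fp (isDom_pieces hf hU) Γ(X', U') h y fun w => ?_
  let C : CommRingCat.{u} := CommRingCat.of (PieceRing w ⊗[Γ(X, U)] Γ(X', U'))
  let φ : Γ(X', U') ⟶ C := CommRingCat.ofHom (Algebra.TensorProduct.includeRight
    (R := Γ(X, U)) (A := PieceRing w) (B := Γ(X', U'))).toRingHom
  let ψ : Γ(Z w.1, w.2.1) ⟶ C := CommRingCat.ofHom Algebra.TensorProduct.includeLeftRingHom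
  have hcomp : (f w.1).appLE U w.2.1 w.2.2.2 ≫ ψ = g.appLE U U' hle ≫ φ := by
    ext a
    exact Algebra.TensorProduct.tmul_one_eq_one_tmul (A := PieceRing w) (B := Γ(X', U')) a
  let m : Spec C ⟶ pullback (f w.1) g := pullback.lift (Spec.map ψ ≫ w.2.2.1.fromSpec) (Spec.map φ ≫ hU'.fromSpec) (by
    rw [Category.assoc, Category.assoc, ← IsAffineOpen.SpecMap_appLE_fromSpec (f w.1) hU w.2.2.1 w.2.2.2,
      ← IsAffineOpen.SpecMap_appLE_fromSpec g hU hU' hle, ← Spec.map_comp_assoc, ← Spec.map_comp_assoc, hcomp])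
  exact hy w.1 C φ m (pullback.lift_snd _ _ _)

/-- Over a field every base change preserves dominance. -/
theorem schDom_map_field {k : Type u} [Field k] {X S' : Scheme.{u}} (p : X ⟶ Spec (CommRingCat.of k))
    (q : S' ⟶ Spec (CommRingCat.of k)) {ι : Type u} {Z : ι → Scheme.{u}} (f : ∀ i, Z i ⟶ X) (hf : SchDom f) :
    SchDom fun i => pullback.map (f i ≫ p) q p q (f i) (𝟙 S') (𝟙 _) (Category.comp_id _)
      ((Category.comp_id _).trans (Category.id_comp _).symm) := by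
  refine schDom_of_local _ fun z => ?_
  obtain ⟨_, ⟨U, hU, rfl⟩, hzU, -⟩ :=
    X.isBasis_affineOpens.exists_subset_of_mem_open (Set.mem_univ (pullback.fst p q z)) isOpen_univ
  obtain ⟨_, ⟨T, hT, rfl⟩, hzT, -⟩ :=
    S'.isBasis_affineOpens.exists_subset_of_mem_open (Set.mem_univ (pullback.snd p q z)) isOpen_univ
  obtain ⟨a, ha⟩ := Spec.map_surjective (hU.fromSpec ≫ p)
  obtain ⟨b, hb⟩ := Spec.map_surjective (hT.fromSpec ≫ q)
  letI : Algebra k Γ(X, U) := a.hom.toAlgebra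
  letI : Algebra k Γ(S', T) := b.hom.toAlgebra
  let R := Γ(X, U) ⊗[k] Γ(S', T)
  let m₀ := pullback.map (Spec.map (CommRingCat.ofHom (algebraMap k Γ(X, U))))
    (Spec.map (CommRingCat.ofHom (algebraMap k Γ(S', T)))) p q hU.fromSpec hT.fromSpec (𝟙 _)
    (by rw [Category.comp_id]; exact ha) (by rw [Category.comp_id]; exact hb)
  let c : Spec (CommRingCat.of R) ⟶ pullback p q := (pullbackSpecIso k Γ(X, U) Γ(S', T)).inv ≫ m₀
  haveI : IsOpenImmersion c := inferInstance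
  have hc₁ : c ≫ pullback.fst p q =
      Spec.map (CommRingCat.ofHom (Algebra.TensorProduct.includeLeftRingHom : Γ(X, U) →+* R)) ≫ hU.fromSpec := by
    simp only [c, m₀, Category.assoc, pullback.lift_fst]
    exact pullbackSpecIso_inv_fst_assoc k Γ(X, U) Γ(S', T) hU.fromSpec
  have hc₂ : c ≫ pullback.snd p q =
      Spec.map (CommRingCat.ofHom (Algebra.TensorProduct.includeRight (R := k) (A := Γ(X, U)) (B := Γ(S', T))).toRingHom) ≫
        hT.fromSpec := by
    simp only [c, m₀, Category.assoc, pullback.lift_snd]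
    exact pullbackSpecIso_inv_snd_assoc k Γ(X, U) Γ(S', T) hT.fromSpec
  have hz : z ∈ c ''ᵁ ⊤ := by
    have h1 : z ∈ Set.range m₀ := by
      rw [Scheme.Pullback.range_map]
      exact ⟨hU.range_fromSpec.symm ▸ hzU, hT.range_fromSpec.symm ▸ hzT⟩
    obtain ⟨u, rfl⟩ := h1
    obtain ⟨v, rfl⟩ := (pullbackSpecIso k Γ(X, U) Γ(S', T)).inv.surjective u
    exact ⟨v, trivial, rfl⟩
  have hV : IsAffineOpen (c ''ᵁ ⊤) := (isAffineOpen_top _).image_of_isOpenImmersion c
  refine ⟨c ''ᵁ ⊤, hV, hz, fun h y hy => ?_⟩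
  -- `Γ(c.opensRange) ≅ R`
  let i₀ : Γ(pullback p q, c ''ᵁ ⊤) ⟶ CommRingCat.of R :=
    c.appLE (c ''ᵁ ⊤) ⊤ (c.preimage_image_eq ⊤).ge ≫ (Scheme.ΓSpecIso _).hom
  have hi₀ : Spec.map i₀ ≫ hV.fromSpec = c := by
    rw [Spec.map_comp, Category.assoc, IsAffineOpen.SpecMap_appLE_fromSpec c hV (isAffineOpen_top _) _]
    simp [IsAffineOpen.fromSpec_top]
  haveI : IsIso i₀ := by
    haveI : IsIso (c.appLE (c ''ᵁ ⊤) ⊤ (c.preimage_image_eq ⊤).ge) :=
      (Scheme.Hom.appIso_hom' c ⊤) ▸ (inferInstance : IsIso (c.appIso ⊤).hom)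
    infer_instance
  letI : ∀ w : Piece f U, Algebra Γ(X, U) (PieceRing w) := fun w => ((f w.1).appLE U w.2.1 w.2.2.2).hom.toAlgebra
  letI : ∀ w : Piece f U, Algebra k (PieceRing w) := fun w =>
    ((algebraMap Γ(X, U) (PieceRing w)).comp (algebraMap k Γ(X, U))).toAlgebra
  haveI : ∀ w : Piece f U, IsScalarTower k Γ(X, U) (PieceRing w) := fun w => IsScalarTower.of_algebraMap_eq fun _ => rfl
  obtain ⟨n, hn⟩ := isDom_field (isDom_pieces hf hU) Γ(S', T) (i₀ h) (i₀ y) fun w => by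
    let C : CommRingCat.{u} := CommRingCat.of (PieceRing w ⊗[k] Γ(S', T))
    let ξ : CommRingCat.of R ⟶ C :=
      CommRingCat.ofHom (Algebra.TensorProduct.map (IsScalarTower.toAlgHom k Γ(X, U) (PieceRing w))
        (AlgHom.id k Γ(S', T))).toRingHom
    let ψ₁ : Γ(Z w.1, w.2.1) ⟶ C := CommRingCat.ofHom Algebra.TensorProduct.includeLeftRingHom
    let ψ₂ : Γ(S', T) ⟶ C :=
      CommRingCat.ofHom (Algebra.TensorProduct.includeRight (R := k) (A := PieceRing w) (B := Γ(S', T))).toRingHom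
    have hξ₁ : CommRingCat.ofHom (Algebra.TensorProduct.includeLeftRingHom : Γ(X, U) →+* R) ≫ ξ =
        (f w.1).appLE U w.2.1 w.2.2.2 ≫ ψ₁ := by
      ext r
      show Algebra.TensorProduct.map _ _ (r ⊗ₜ[k] (1 : Γ(S', T))) = _
      rfl
    have hξ₂ : CommRingCat.ofHom
        (Algebra.TensorProduct.includeRight (R := k) (A := Γ(X, U)) (B := Γ(S', T))).toRingHom ≫ ξ = ψ₂ := by
      ext r
      show Algebra.TensorProduct.map _ _ ((1 : Γ(X, U)) ⊗ₜ[k] r) = _
      rw [Algebra.TensorProduct.map_tmul, map_one]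
      rfl
    have e₁ : Spec.map ξ ≫ c ≫ pullback.fst p q = Spec.map ψ₁ ≫ w.2.2.1.fromSpec ≫ f w.1 := by
      rw [hc₁, ← Spec.map_comp_assoc, hξ₁, Spec.map_comp, Category.assoc, IsAffineOpen.SpecMap_appLE_fromSpec]
    have e₂ : Spec.map ξ ≫ c ≫ pullback.snd p q = Spec.map ψ₂ ≫ hT.fromSpec := by
      rw [hc₂, ← Spec.map_comp_assoc, hξ₂]
    let m : Spec C ⟶ pullback (f w.1 ≫ p) q := pullback.lift (Spec.map ψ₁ ≫ w.2.2.1.fromSpec) (Spec.map ψ₂ ≫ hT.fromSpec)
      (by rw [← e₂, Category.assoc, ← reassoc_of% e₁, pullback.condition]; simp only [Category.assoc])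
    obtain ⟨n, hn⟩ := hy w.1 C (i₀ ≫ ξ) m (by
      rw [Spec.map_comp, Category.assoc, hi₀]
      apply pullback.hom_ext
      · rw [Category.assoc, Category.assoc, pullback.lift_fst, pullback.lift_fst_assoc, e₁, Category.assoc]
      · rw [Category.assoc, Category.assoc, pullback.lift_snd, Category.comp_id, pullback.lift_snd, e₂])
    exact ⟨n, by rw [← map_pow, ← map_mul]; exact hn⟩
  refine ⟨n, (ConcreteCategory.bijective_of_isIso i₀).1 ?_⟩
  rw [map_mul, map_pow, hn, map_zero]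

end Groth.FlatDescent.Dom
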