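import Groth.Agent.FlatDescent.Dom.Dense
import Groth.Agent.FlatDescent.Dom.BaseChange

/-!
# Preimages of schematically dense opens
-/

universe u

open AlgebraicGeometry CategoryTheory CategoryTheory.Limits

namespace Groth.FlatDescent.Dom

/-- A family through which a dominant family factors is dominant. -/
theorem SchDom.of_factor {X : Scheme.{u}} {ι : Type u} {Z Z' : ι → Scheme.{u}} {f : ∀ i, Z i ⟶ X}
    {f' : ∀ i, Z' i ⟶ X} (hf : SchDom f) (c : ∀ i, Z i ⟶ Z' i) (hc : ∀ i, c i ≫ f' i = f i) : SchDom f' :=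
  fun V t ht => hf V t fun i => by
    rw [← hc i]
    show (c i).app _ ((f' i).app V t) = 0
    rw [ht i]; exact map_zero _

/-- The preimage of an open whose pullback is dominant is schematically dense. -/
theorem isSchematicallyDense_preimage_of_schDom {X X' : Scheme.{u}} (g : X' ⟶ X) (U : X.Opens)
    (h : SchDom fun _ : PUnit.{u+1} => pullback.snd U.ι g) : CInt.IsSchematicallyDense (g ⁻¹ᵁ U) := by
  have hr : Set.range (pullback.snd U.ι g) ⊆ Set.range (g ⁻¹ᵁ U).ι := by
    rintro _ ⟨t, rfl⟩
    rw [Scheme.Opens.range_ι]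
    show g (pullback.snd U.ι g t) ∈ U
    rw [← Scheme.Hom.comp_apply, ← pullback.condition, Scheme.Hom.comp_apply]
    exact (pullback.fst U.ι g t).2
  exact (schDom_ι_iff _).mpr (h.of_factor (fun _ => IsOpenImmersion.lift (g ⁻¹ᵁ U).ι (pullback.snd U.ι g) hr)
    fun _ => IsOpenImmersion.lift_fac _ _ _)

end Groth.FlatDescent.Dom
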