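import Groth.Agent.FlatDescent.Dom.Rings

/-!
# Universally dominant families over an arbitrary base (Noetherian total ring)
-/

universe u

open TensorProduct

namespace Groth.FlatDescent.Dom

section Field

/-- For a module killed by the prime `q`, the kernel of `X → κ(q) ⊗ X` is torsion. -/
theorem exists_smul_eq_zero_of_tmul_residueField {A : Type u} [CommRing A] (q : Ideal A) [q.IsPrime] {X : Type u}
    [AddCommGroup X] [Module A X] (hX : ∀ a ∈ q, ∀ x : X, a • x = 0) (x : X)
    (hx : (1 : q.ResidueField) ⊗ₜ[A] x = 0) : ∃ a : A, a ∉ q ∧ a • x = 0 := by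
  let D := A ⧸ q
  have hT : Module.IsTorsionBySet A X (q : Set A) := fun v a => hX a.1 a.2 v
  letI : Module D X := hT.module
  haveI : IsScalarTower A D X := hT.isScalarTower
  let Ψ : q.ResidueField ⊗[A] X →ₗ[A] q.ResidueField ⊗[D] X :=
    TensorProduct.lift ((TensorProduct.mk D q.ResidueField X).restrictScalars₁₂ A A)
  have h1 : (1 : q.ResidueField) ⊗ₜ[D] x = 0 := by
    have := congrArg Ψ hx
    simpa [Ψ] using this
  haveI := Groth.GenFree.isLocalizedModule_mk (nonZeroDivisors D) q.ResidueField X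
  obtain ⟨⟨d, hd⟩, hdx⟩ := (IsLocalizedModule.eq_zero_iff (nonZeroDivisors D) (TensorProduct.mk D q.ResidueField X 1)).mp h1
  obtain ⟨a, rfl⟩ := Ideal.Quotient.mk_surjective d
  refine ⟨a, fun ha => nonZeroDivisors.ne_zero hd (Ideal.Quotient.eq_zero_iff_mem.mpr ha), ?_⟩
  rw [← algebraMap_smul D a x]
  exact hdx

variable {A : Type u} [CommRing A] {B : Type u} [CommRing B] [Algebra A B] {κ : Type*} {C : κ → Type u}
  [∀ i, CommRing (C i)] [∀ i, Algebra A (C i)] (g : ∀ i, B →ₐ[A] C i)

/-- The family is separating on the basic opens of `Spec (R ⊗ B)`. -/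
def DomAt (R : Type u) [CommRing R] [Algebra A R] : Prop :=
  ∀ h z : R ⊗[A] B, (∀ i, ∃ n : ℕ, Algebra.TensorProduct.map (AlgHom.id A R) (g i) (h ^ n * z) = 0) →
    ∃ n : ℕ, h ^ n * z = 0

variable {g}

theorem DomAt.descend {R R' : Type u} [CommRing R] [Algebra A R] [CommRing R'] [Algebra A R'] (j : R →ₐ[A] R')
    (hj : Function.Injective (j.toLinearMap.rTensor B)) (h : DomAt g R') : DomAt g R := fun a z hz => by
  let J := Algebra.TensorProduct.map j (AlgHom.id A B)
  have hJ : Function.Injective J := hj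
  obtain ⟨n, hn⟩ := h (J a) (J z) fun i => by
    obtain ⟨n, hn⟩ := hz i
    refine ⟨n, ?_⟩
    have hc : (Algebra.TensorProduct.map (AlgHom.id A R') (g i)).comp J =
        (Algebra.TensorProduct.map j (AlgHom.id A (C i))).comp (Algebra.TensorProduct.map (AlgHom.id A R) (g i)) :=
      Algebra.TensorProduct.ext' fun r b => rfl
    rw [← map_pow J, ← map_mul J, ← AlgHom.comp_apply, hc, AlgHom.comp_apply, hn, map_zero]
  exact ⟨n, hJ (by rw [map_mul, map_pow, hn, map_zero])⟩

theorem rTensor_injective_of_field {k K : Type u} [Field k] [CommRing K] [Algebra A k] [Algebra A K]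
    (j : k →ₐ[A] K) (hj : Function.Injective j) (X : Type u) [AddCommGroup X] [Module A X] :
    Function.Injective (j.toLinearMap.rTensor X) := by
  letI : Algebra k K := j.toRingHom.toAlgebra
  haveI : IsScalarTower A k K := IsScalarTower.of_algebraMap_eq fun a => (j.commutes a).symm
  obtain ⟨l, hl⟩ := LinearMap.exists_leftInverse_of_injective (Algebra.linearMap k K)
    (LinearMap.ker_eq_bot.mpr hj)
  refine Function.LeftInverse.injective (g := (l.restrictScalars A).rTensor X) fun y => ?_
  rw [← LinearMap.comp_apply, ← LinearMap.rTensor_comp]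
  have : (l.restrictScalars A).comp j.toLinearMap = LinearMap.id := LinearMap.ext fun a => LinearMap.congr_fun hl a
  rw [this, LinearMap.rTensor_id, LinearMap.id_apply]

/-- From a field to an extension. -/
theorem DomAt.extend {k : Type u} [Field k] [Algebra A k] (h : DomAt g k) (K : Type u) [CommRing K] [Algebra A K]
    [Algebra k K] [IsScalarTower A k K] : DomAt g K := by
  letI : ∀ i, Algebra (k ⊗[A] B) (k ⊗[A] C i) := fun i =>
    (Algebra.TensorProduct.map (AlgHom.id k k) (g i)).toRingHom.toAlgebra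
  haveI : ∀ i, IsScalarTower k (k ⊗[A] B) (k ⊗[A] C i) := fun i =>
    IsScalarTower.of_algebraMap_eq fun a => ((Algebra.TensorProduct.map (AlgHom.id k k) (g i)).commutes a).symm
  have hD : IsDom (k ⊗[A] B) fun i => k ⊗[A] C i := fun b a hb => h b a fun i => hb i
  intro u z hz
  let e : (k ⊗[A] B) ⊗[k] K ≃+* K ⊗[A] B :=
    (Algebra.TensorProduct.comm k (k ⊗[A] B) K).toRingEquiv.trans
      (Algebra.TensorProduct.cancelBaseChange A k K K B).toRingEquiv
  obtain ⟨n, hn⟩ := isDom_field hD K (e.symm u) (e.symm z) fun i => by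
    obtain ⟨n, hn⟩ := hz i
    refine ⟨n, ?_⟩
    let e' : (k ⊗[A] C i) ⊗[k] K ≃+* K ⊗[A] C i :=
      (Algebra.TensorProduct.comm k (k ⊗[A] C i) K).toRingEquiv.trans
        (Algebra.TensorProduct.cancelBaseChange A k K K (C i)).toRingEquiv
    refine e'.injective ?_
    rw [map_zero, ← hn, ← map_pow e.symm, ← map_mul e.symm]
    obtain ⟨v, hv⟩ := e.surjective (u ^ n * z)
    rw [← hv, RingEquiv.symm_apply_apply]
    clear hv
    induction v using TensorProduct.induction_on with
    | zero => simp
    | add p q hp hq => simp only [map_add, hp, hq]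
    | tmul x r =>
      induction x using TensorProduct.induction_on with
      | zero => simp
      | add p q hp hq => simp only [add_tmul, map_add, hp, hq]
      | tmul a b =>
        simp [e, e', RingHom.algebraMap_toAlgebra]
  refine ⟨n, e.symm.injective ?_⟩
  rw [map_mul, map_pow, hn, map_zero]

end Field

theorem mem_range_lTensor_subtype {R : Type u} [CommRing R] (Q : Type u) [AddCommGroup Q] [Module R Q] {N : Type u}
    [AddCommGroup N] [Module R N] (N' : Submodule R N) (z : Q ⊗[R] N) (hz : N'.mkQ.lTensor Q z = 0) :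
    z ∈ LinearMap.range (N'.subtype.lTensor Q) :=
  (lTensor_exact Q (LinearMap.exact_subtype_mkQ N') N'.mkQ_surjective z).mp hz

section Core

variable {A : Type u} [CommRing A] {B : Type u} [CommRing B] [Algebra A B] [IsNoetherianRing B] {κ : Type*}
  {C : κ → Type u} [∀ i, CommRing (C i)] [∀ i, Algebra A (C i)] [∀ i, Module.Flat A (C i)] (g : ∀ i, B →ₐ[A] C i)

theorem exists_pow_smul_eq_zero_of_fibres (h : B)
    (hfib : ∀ q : Ideal A, ∀ [q.IsPrime], ∀ z : B ⊗[A] q.ResidueField,
      (∀ i, ∃ k : ℕ, (g i).toLinearMap.rTensor q.ResidueField (h ^ k • z) = 0) → ∃ k : ℕ, h ^ k • z = 0)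
    (M : Type u) [AddCommGroup M] [Module A M] (y : B ⊗[A] M)
    (hy : ∀ i, ∃ k : ℕ, (g i).toLinearMap.rTensor M (h ^ k • y) = 0) : ∃ k : ℕ, h ^ k • y = 0 := by
  classical
  obtain ⟨M₀, hfin, hM₀⟩ := TensorProduct.exists_finite_submodule_right_of_setFinite {y} (Set.finite_singleton y)
  obtain ⟨y₀, hy₀⟩ := hM₀ rfl
  -- naturality
  have hnat : ∀ {X X' : Type u} [AddCommGroup X] [Module A X] [AddCommGroup X'] [Module A X'] (f : X →ₗ[A] X') (i : κ)
      (v : B ⊗[A] X), (g i).toLinearMap.rTensor X' (f.lTensor B v) = f.lTensor (C i) ((g i).toLinearMap.rTensor X v) :=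
    fun f i v => by
      rw [← LinearMap.comp_apply, LinearMap.rTensor_comp_lTensor, ← LinearMap.lTensor_comp_rTensor, LinearMap.comp_apply]
  have hsmul : ∀ {X X' : Type u} [AddCommGroup X] [Module A X] [AddCommGroup X'] [Module A X'] (f : X →ₗ[A] X') (b : B)
      (v : B ⊗[A] X), f.lTensor B (b • v) = b • f.lTensor B v := fun f b v =>
    (AlgebraTensorModule.lTensor B B f).map_smul b v
  have hgsmul : ∀ {X : Type u} [AddCommGroup X] [Module A X] (i : κ) (b : B) (v : B ⊗[A] X),
      (g i).toLinearMap.rTensor X (b • v) = g i b • (g i).toLinearMap.rTensor X v := fun i b v => by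
    induction v using TensorProduct.induction_on with
    | zero => simp
    | add p q hp hq => simp only [smul_add, map_add, hp, hq]
    | tmul c x => simp [TensorProduct.smul_tmul', map_mul]
  have hy₀' : ∀ i, ∃ k : ℕ, (g i).toLinearMap.rTensor M₀ (h ^ k • y₀) = 0 := fun i => by
    obtain ⟨k, hk⟩ := hy i
    refine ⟨k, Module.Flat.lTensor_preserves_injective_linearMap (M := C i) M₀.subtype Subtype.val_injective ?_⟩
    rw [map_zero, ← hnat, hsmul, hy₀, hk]
  suffices h0 : ∃ k : ℕ, h ^ k • y₀ = 0 by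
    obtain ⟨k, hk⟩ := h0
    exact ⟨k, by rw [← hy₀, ← hsmul, hk, map_zero]⟩
  haveI : Module.Finite B (B ⊗[A] M₀) := inferInstance
  -- suffices to find annihilators outside every prime missing `h`
  let ann : Ideal B := LinearMap.ker (LinearMap.toSpanSingleton B _ y₀)
  suffices hann : h ∈ ann.radical by
    obtain ⟨k, hk⟩ := hann
    exact ⟨k, hk⟩
  rw [Ideal.radical_eq_sInf, Submodule.mem_sInf]
  intro P' hP'
  obtain ⟨P, rfl⟩ : ∃ P : Ideal B, P = P' := ⟨P', rfl⟩
  obtain ⟨hle, hP⟩ := hP'
  by_contra hhP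
  haveI := hP
  let q : Ideal A := Ideal.comap (algebraMap A B) P
  have key : ∀ n : ℕ, ∃ t : B, t ∉ P ∧ t • y₀ ∈ LinearMap.range ((q ^ n • (⊤ : Submodule A M₀)).subtype.lTensor B) := by
    intro n
    induction n with
    | zero =>
      refine ⟨1, fun h1 => hP.ne_top ((Ideal.eq_top_iff_one P).mpr h1), ?_⟩
      obtain ⟨v, hv⟩ := LinearMap.lTensor_surjective B (g := (q ^ 0 • (⊤ : Submodule A M₀)).subtype)
        (fun x => ⟨⟨x, by simp⟩, rfl⟩) ((1 : B) • y₀)
      exact ⟨v, hv⟩
    | succ n ih =>
      obtain ⟨t, ht, y', hy'⟩ := ih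
      let N : Submodule A M₀ := q ^ n • ⊤
      let P' : Submodule A N := q • ⊤
      let X := B ⊗[A] (↥N ⧸ P')
      let z₁ : X := P'.mkQ.lTensor B y'
      have hX : ∀ a ∈ q, ∀ x : X, a • x = 0 := fun a ha x => by
        induction x using TensorProduct.induction_on with
        | zero => exact smul_zero _
        | add u v hu hv => rw [smul_add, hu, hv, add_zero]
        | tmul b v =>
          obtain ⟨v, rfl⟩ := Submodule.Quotient.mk_surjective _ v
          rw [← tmul_smul, ← Submodule.Quotient.mk_smul,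
            (Submodule.Quotient.mk_eq_zero _).mpr (Submodule.smul_mem_smul ha Submodule.mem_top), tmul_zero]
      let K := q.ResidueField
      let ι : (↥N ⧸ P') →ₗ[A] K ⊗[A] (↥N ⧸ P') := TensorProduct.mk A K _ 1
      -- the fibre
      obtain ⟨k, hk⟩ : ∃ k : ℕ, h ^ k • ι.lTensor B z₁ = 0 := by
        let bs := Module.Free.chooseBasis K (K ⊗[A] (↥N ⧸ P'))
        let E := (TensorProduct.congr (LinearEquiv.refl A B) (bs.repr.restrictScalars A)).trans
          (TensorProduct.finsuppRight A A B K _)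
        have hE : ∀ (v : B ⊗[A] (K ⊗[A] (↥N ⧸ P'))) i,
            E v i = ((bs.coord i).restrictScalars A).lTensor B v := fun v i => by
          induction v using TensorProduct.induction_on with
          | zero => simp
          | add u v hu hv => simp only [map_add, Finsupp.coe_add, Pi.add_apply, hu, hv]
          | tmul b x => simp [E, Module.Basis.coord_apply]
        let w := ι.lTensor B z₁
        have hc : ∀ i, ∃ k : ℕ, h ^ k • ((bs.coord i).restrictScalars A).lTensor B w = 0 := fun i => by
          refine hfib q _ fun j => ?_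
          obtain ⟨k, hk⟩ := hy₀' j
          refine ⟨k, ?_⟩
          have h1 : (g j).toLinearMap.rTensor N (h ^ k • y') = 0 := by
            refine Module.Flat.lTensor_preserves_injective_linearMap (M := C j) N.subtype Subtype.val_injective ?_
            rw [map_zero, ← hnat, hsmul, hy', smul_comm, hgsmul, hk, smul_zero]
          rw [← hsmul, ← hsmul, ← hsmul, hnat, hnat, hnat, h1, map_zero, map_zero, map_zero]
        choose kk hkk using hc
        refine ⟨(E w).support.sup kk, E.injective (Finsupp.ext fun i => ?_)⟩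
        rw [hE, hsmul, map_zero, Finsupp.coe_zero, Pi.zero_apply]
        by_cases hi : i ∈ (E w).support
        · rw [← Nat.sub_add_cancel (Finset.le_sup hi (f := kk)), pow_add, mul_smul, hkk, smul_zero]
        · rw [← hE, Finsupp.notMem_support_iff.mp hi, smul_zero]
      rw [← hsmul] at hk
      have hk' : (1 : K) ⊗ₜ[A] (h ^ k • z₁) = 0 := by
        have h1 := congrArg (TensorProduct.leftComm A B K (↥N ⧸ P')) hk
        rw [map_zero] at h1
        refine Eq.trans ?_ h1
        generalize h ^ k • z₁ = v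
        induction v using TensorProduct.induction_on with
        | zero => simp
        | add u v hu hv => simp only [tmul_add, map_add, hu, hv]
        | tmul b x => simp [ι]
      obtain ⟨a, ha, hax⟩ := exists_smul_eq_zero_of_tmul_residueField q hX _ hk'
      let s : B := algebraMap A B a * h ^ k
      have hs : s ∉ P := fun hc => (hP.mem_or_mem hc).elim ha fun hh => hhP (hP.mem_of_pow_mem k hh)
      have h0 : P'.mkQ.lTensor B (s • y') = 0 := by
        rw [hsmul, mul_smul, algebraMap_smul]
        exact hax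
      obtain ⟨v, hv⟩ := mem_range_lTensor_subtype B P' (s • y') h0
      let c : P' →ₗ[A] ↥(q ^ (n + 1) • (⊤ : Submodule A M₀)) :=
        LinearMap.codRestrict _ (N.subtype ∘ₗ P'.subtype) fun x => by
          have h1 : ((x : N) : M₀) ∈ P'.map N.subtype := ⟨x, x.2, rfl⟩
          rw [Submodule.map_smul'', Submodule.map_subtype_top] at h1
          rw [pow_succ', Submodule.mul_smul]
          exact h1
      refine ⟨s * t, fun hc => (hP.mem_or_mem hc).elim hs ht, c.lTensor B v, ?_⟩
      rw [← LinearMap.comp_apply, ← LinearMap.lTensor_comp,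
        show (q ^ (n + 1) • (⊤ : Submodule A M₀)).subtype ∘ₗ c = N.subtype ∘ₗ P'.subtype from rfl,
        LinearMap.lTensor_comp, LinearMap.comp_apply, hv, hsmul, hy', ← mul_smul]
  -- Krull
  let f := LocalizedModule.mkLinearMap P.primeCompl (B ⊗[A] M₀)
  haveI : Module.Finite (Localization.AtPrime P) (LocalizedModule P.primeCompl (B ⊗[A] M₀)) :=
    Module.Finite.of_isLocalizedModule P.primeCompl f
  let mP := IsLocalRing.maximalIdeal (Localization.AtPrime P)
  have hqm : (q.map (algebraMap A B)).map (algebraMap B (Localization.AtPrime P)) ≤ mP :=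
    (Ideal.map_mono Ideal.map_comap_le).trans Localization.AtPrime.map_eq_maximalIdeal.le
  have hmem : f y₀ ∈ ⨅ n, mP ^ n • (⊤ : Submodule (Localization.AtPrime P) (LocalizedModule P.primeCompl (B ⊗[A] M₀))) := by
    refine Submodule.mem_iInf _ |>.mpr fun n => ?_
    obtain ⟨t, ht, v, hv⟩ := key n
    have hu : IsUnit (algebraMap B (Localization.AtPrime P) t) :=
      IsLocalization.map_units (Localization.AtPrime P) (⟨t, ht⟩ : P.primeCompl)
    rw [← Submodule.smul_mem_iff_of_isUnit _ hu, algebraMap_smul, ← map_smul, ← hv]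
    clear hv
    induction v using TensorProduct.induction_on with
    | zero => simp
    | add u v hu hv => rw [map_add, map_add]; exact add_mem hu hv
    | tmul b x =>
      rw [LinearMap.lTensor_tmul]
      refine Submodule.smul_induction_on (p := fun z => f (b ⊗ₜ[A] z) ∈ mP ^ n • ⊤) x.2 (fun a ha m _ => ?_)
        (fun u v hu hv => by rw [tmul_add, map_add]; exact add_mem hu hv)
      rw [tmul_smul, ← algebraMap_smul B a, map_smul, ← algebraMap_smul (Localization.AtPrime P) (algebraMap A B a)]
      refine Submodule.smul_mem_smul ?_ Submodule.mem_top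
      refine Ideal.pow_right_mono hqm n ?_
      rw [← Ideal.map_pow, ← Ideal.map_pow]
      exact Ideal.mem_map_of_mem _ (Ideal.mem_map_of_mem _ ha)
  have h7 := Ideal.iInf_pow_smul_eq_bot_of_isLocalRing (M := LocalizedModule P.primeCompl (B ⊗[A] M₀)) mP
    (IsLocalRing.maximalIdeal.isMaximal _).ne_top
  rw [h7] at hmem
  obtain ⟨⟨t, ht⟩, hty⟩ := (IsLocalizedModule.eq_zero_iff P.primeCompl f).mp hmem
  exact ht (hle hty)

end Core

section Universal

variable {A : Type u} [CommRing A] {B : Type u} [CommRing B] [Algebra A B] {κ : Type*}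
  {C : κ → Type u} [∀ i, CommRing (C i)] [∀ i, Algebra A (C i)]

variable (A) in
/-- `X ⊗ Y ≅ (A₁ ⊗ Y) ⊗ X` over an intermediate algebra `A₁`. -/
noncomputable def toStage (A₁ : Type u) [CommRing A₁] [Algebra A A₁] (Y : Type u) [CommRing Y] [Algebra A Y]
    (X : Type u) [CommRing X] [Algebra A X] [Algebra A₁ X] [IsScalarTower A A₁ X] :
    X ⊗[A] Y ≃+* (A₁ ⊗[A] Y) ⊗[A₁] X :=
  (Algebra.TensorProduct.cancelBaseChange A A₁ X X Y).symm.toRingEquiv.trans
    (Algebra.TensorProduct.comm A₁ X (A₁ ⊗[A] Y)).toRingEquiv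

theorem toStage_tmul (A₁ : Type u) [CommRing A₁] [Algebra A A₁] {Y : Type u} [CommRing Y] [Algebra A Y]
    {X : Type u} [CommRing X] [Algebra A X] [Algebra A₁ X] [IsScalarTower A A₁ X] (x : X) (y : Y) :
    toStage A A₁ Y X (x ⊗ₜ y) = ((1 : A₁) ⊗ₜ[A] y) ⊗ₜ[A₁] x := by
  simp [toStage]

theorem toStage_natural (g : ∀ i, B →ₐ[A] C i) (A₁ : Type u) [CommRing A₁] [Algebra A A₁] (i : κ)
    (X : Type u) [CommRing X] [Algebra A X] [Algebra A₁ X] [IsScalarTower A A₁ X] (v : X ⊗[A] B) :
    (Algebra.TensorProduct.map (AlgHom.id A₁ A₁) (g i)).toLinearMap.rTensor X (toStage A A₁ B X v) =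
      toStage A A₁ (C i) X (Algebra.TensorProduct.map (AlgHom.id A X) (g i) v) := by
  induction v using TensorProduct.induction_on with
  | zero => simp only [map_zero]
  | add p q hp hq => simp only [map_add, hp, hq]
  | tmul x b =>
    rw [Algebra.TensorProduct.map_tmul, toStage_tmul, toStage_tmul, LinearMap.rTensor_tmul]
    rfl

theorem smul_toStage (A₁ : Type u) [CommRing A₁] [Algebra A A₁] (X : Type u) [CommRing X] [Algebra A X] [Algebra A₁ X]
    [IsScalarTower A A₁ X] (c : A₁ ⊗[A] B) (v : X ⊗[A] B) :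
    c • toStage A A₁ B X v =
      toStage A A₁ B X (Algebra.TensorProduct.map (IsScalarTower.toAlgHom A A₁ X) (AlgHom.id A B) c * v) := by
  rw [map_mul]
  have h1 : toStage A A₁ B X (Algebra.TensorProduct.map (IsScalarTower.toAlgHom A A₁ X) (AlgHom.id A B) c) =
      c ⊗ₜ[A₁] 1 := by
    induction c using TensorProduct.induction_on with
    | zero => simp only [map_zero, zero_tmul]
    | add p q hp hq => simp only [map_add, hp, hq, add_tmul]
    | tmul a b =>
      rw [Algebra.TensorProduct.map_tmul, toStage_tmul, IsScalarTower.coe_toAlgHom', AlgHom.coe_id, id_eq,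
        Algebra.algebraMap_eq_smul_one, tmul_smul, TensorProduct.smul_tmul' a, TensorProduct.smul_tmul' a,
        smul_eq_mul, mul_one]
  rw [h1]
  show c • toStage A A₁ B X v = Algebra.TensorProduct.includeLeftRingHom c * toStage A A₁ B X v
  exact Algebra.smul_def (A := (A₁ ⊗[A] B) ⊗[A₁] X) c _

/-- Over the residue field of a point of `Spec A₁`. -/
theorem domAt_residueField {g : ∀ i, B →ₐ[A] C i} {A₁ : Type u} [CommRing A₁] [Algebra A A₁] (q : Ideal A₁) [q.IsPrime]
    {K : Type u} [Field K] [Algebra A K] (hker : RingHom.ker (algebraMap A K) = q.comap (algebraMap A A₁))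
    (hK : DomAt g K) : DomAt g q.ResidueField := by
  let q₀ := q.comap (algebraMap A A₁)
  let jK : q₀.ResidueField →ₐ[A] K :=
    Ideal.ResidueField.liftₐ q₀ (Algebra.ofId A K) (fun a ha => by
        show a ∈ RingHom.ker (algebraMap A K)
        rw [hker]; exact ha) fun a ha => by
      refine isUnit_iff_ne_zero.mpr fun h0 => ha ?_
      show a ∈ q₀
      rw [show q₀ = RingHom.ker (algebraMap A K) from hker.symm]
      exact h0
  have hq₀ : DomAt g q₀.ResidueField := hK.descend jK (rTensor_injective_of_field jK jK.toRingHom.injective B)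
  let jq : q₀.ResidueField →+* q.ResidueField := Ideal.ResidueField.map q₀ q (algebraMap A A₁) rfl
  letI : Algebra q₀.ResidueField q.ResidueField := jq.toAlgebra
  haveI : IsScalarTower A q₀.ResidueField q.ResidueField := IsScalarTower.of_algebraMap_eq fun a => by
    rw [IsScalarTower.algebraMap_apply A A₁ q.ResidueField]
    exact (Ideal.ResidueField.map_algebraMap q₀ q (algebraMap A A₁) rfl a).symm
  exact hq₀.extend q.ResidueField

theorem exists_pow_smul_toStage {g : ∀ i, B →ₐ[A] C i} (A₁ : Type u) [CommRing A₁] [Algebra A A₁] (X : Type u)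
    [CommRing X] [Algebra A X] [Algebra A₁ X] [IsScalarTower A A₁ X] (hX : DomAt g X) (c : A₁ ⊗[A] B)
    (w : (A₁ ⊗[A] B) ⊗[A₁] X)
    (hw : ∀ i, ∃ k : ℕ, (Algebra.TensorProduct.map (AlgHom.id A₁ A₁) (g i)).toLinearMap.rTensor X (c ^ k • w) = 0) :
    ∃ k : ℕ, c ^ k • w = 0 := by
  obtain ⟨v, rfl⟩ := (toStage A A₁ B X).surjective w
  obtain ⟨n, hn⟩ := hX (Algebra.TensorProduct.map (IsScalarTower.toAlgHom A A₁ X) (AlgHom.id A B) c) v fun i => by
    obtain ⟨k, hk⟩ := hw i
    refine ⟨k, (toStage A A₁ (C i) X).injective ?_⟩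
    rw [map_zero, ← toStage_natural, ← map_pow, ← smul_toStage, hk]
  exact ⟨n, by rw [smul_toStage, map_pow, hn, map_zero]⟩

variable [IsNoetherianRing B] [∀ i, Module.Flat A (C i)] (g : ∀ i, B →ₐ[A] C i)

/-- **Fibrewise dominant families with flat sources are universally dominant.** -/
theorem domAt_of_fibres (hfib : ∀ q : Ideal A, q.IsPrime → ∃ (K : Type u) (_ : Field K) (_ : Algebra A K),
      RingHom.ker (algebraMap A K) = q ∧ DomAt g K)
    (A' : Type u) [CommRing A'] [Algebra A A'] : DomAt g A' := by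
  classical
  intro h z hz
  obtain ⟨R', hR', hsub⟩ := TensorProduct.exists_finite_submodule_left_of_setFinite ({h} : Set (A' ⊗[A] B))
    (Set.toFinite _)
  obtain ⟨s, hs⟩ := (Module.Finite.iff_fg.mp hR')
  let A₁ := Algebra.adjoin A (s : Set A')
  haveI : Algebra.FiniteType A A₁ := ⟨A₁.fg_top.mpr (Subalgebra.fg_adjoin_finset s)⟩
  have hle : R' ≤ Subalgebra.toSubmodule A₁ := hs ▸ Submodule.span_le.mpr Algebra.subset_adjoin
  haveI : IsNoetherianRing (A₁ ⊗[A] B) :=
    haveI : Algebra.FiniteType B (B ⊗[A] A₁) := inferInstance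
    haveI : IsNoetherianRing (B ⊗[A] A₁) := Algebra.FiniteType.isNoetherianRing B _
    isNoetherianRing_of_ringEquiv (B ⊗[A] A₁) (Algebra.TensorProduct.comm A B A₁).toRingEquiv
  obtain ⟨h₁, hh₁⟩ : ∃ h₁ : A₁ ⊗[A] B,
      Algebra.TensorProduct.map (IsScalarTower.toAlgHom A A₁ A') (AlgHom.id A B) h₁ = h := by
    obtain ⟨v, hv⟩ := hsub rfl
    refine ⟨(Submodule.inclusion hle).rTensor B v, ?_⟩
    show A₁.val.toLinearMap.rTensor B ((Submodule.inclusion hle).rTensor B v) = _
    rw [← LinearMap.comp_apply, ← LinearMap.rTensor_comp, ← hv]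
    rfl
  obtain ⟨n, hn⟩ := exists_pow_smul_eq_zero_of_fibres (fun i => Algebra.TensorProduct.map (AlgHom.id A₁ A₁) (g i)) h₁
    (fun q _ w hw => by
      obtain ⟨K, _, _, hker, hK⟩ := hfib (q.comap (algebraMap A A₁)) inferInstance
      exact exists_pow_smul_toStage A₁ q.ResidueField (domAt_residueField q hker hK) h₁ w hw)
    A' (toStage A A₁ B A' z) fun i => by
      obtain ⟨k, hk⟩ := hz i
      exact ⟨k, by rw [smul_toStage, toStage_natural, map_pow, hh₁, hk, map_zero]⟩
  refine ⟨n, (toStage A A₁ B A').injective ?_⟩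
  rw [← hh₁, ← map_pow, ← smul_toStage, hn, map_zero]

end Universal

end Groth.FlatDescent.Dom
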