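import Groth.Agent.FlatDescent.Dom.Scheme
import Groth.Agent.FlatDescent.Dom.Universal

/-!
# Affine charts of relative base changes of families
-/

universe u

open AlgebraicGeometry CategoryTheory CategoryTheory.Limits TensorProduct

namespace Groth.FlatDescent.Dom

section BaseChart

variable {S Y S' : Scheme.{u}} {A : Type u} [CommRing A] (j : Spec (CommRingCat.of A) ⟶ S) [IsOpenImmersion j]
  {q : Y ⟶ S} {B : Type u} [CommRing B] [Algebra A B] {k : Spec (CommRingCat.of B) ⟶ Y}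
  (hk : k ≫ q = Spec.map (CommRingCat.ofHom (algebraMap A B)) ≫ j)
  {g : S' ⟶ S} {A' : Type u} [CommRing A'] [Algebra A A'] {a : Spec (CommRingCat.of A') ⟶ S'}
  (ha : a ≫ g = Spec.map (CommRingCat.ofHom (algebraMap A A')) ≫ j)

/-- The chart `Spec (A' ⊗ B)` of `Y ×_S S'`. -/
noncomputable def baseChart : Spec (CommRingCat.of (A' ⊗[A] B)) ⟶ pullback q g :=
  Spec.map (CommRingCat.ofHom (Algebra.TensorProduct.comm A B A').toRingEquiv.toRingHom) ≫
    (pullbackSpecIso A B A').inv ≫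
    pullback.map (Spec.map (CommRingCat.ofHom (algebraMap A B))) (Spec.map (CommRingCat.ofHom (algebraMap A A'))) q g
      k a j hk.symm ha.symm

theorem baseChart_fst : baseChart j hk ha ≫ pullback.fst q g =
    Spec.map (CommRingCat.ofHom (Algebra.TensorProduct.includeRight (R := A) (A := A') (B := B)).toRingHom) ≫ k := by
  simp only [baseChart, Category.assoc, pullback.lift_fst]
  rw [pullbackSpecIso_inv_fst_assoc, ← Spec.map_comp_assoc]
  refine congrArg (fun φ => Spec.map φ ≫ k) ?_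
  ext b
  rfl

theorem baseChart_snd : baseChart j hk ha ≫ pullback.snd q g =
    Spec.map (CommRingCat.ofHom (Algebra.TensorProduct.includeLeftRingHom : A' →+* A' ⊗[A] B)) ≫ a := by
  simp only [baseChart, Category.assoc, pullback.lift_snd]
  rw [pullbackSpecIso_inv_snd_assoc, ← Spec.map_comp_assoc]
  refine congrArg (fun φ => Spec.map φ ≫ a) ?_
  ext b
  rfl

theorem isOpenImmersion_baseChart [IsOpenImmersion k] [IsOpenImmersion a] : IsOpenImmersion (baseChart j hk ha) := by
  have : IsIso (CommRingCat.ofHom (Algebra.TensorProduct.comm A B A').toRingEquiv.toRingHom) :=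
    (Algebra.TensorProduct.comm A B A').toRingEquiv.toCommRingCatIso.isIso_hom
  unfold baseChart
  infer_instance

theorem mem_range_baseChart [IsOpenImmersion k] [IsOpenImmersion a] {z : ↥(pullback q g)}
    (h₁ : pullback.fst q g z ∈ Set.range k) (h₂ : pullback.snd q g z ∈ Set.range a) :
    z ∈ Set.range (baseChart j hk ha) := by
  have : IsIso (CommRingCat.ofHom (Algebra.TensorProduct.comm A B A').toRingEquiv.toRingHom) :=
    (Algebra.TensorProduct.comm A B A').toRingEquiv.toCommRingCatIso.isIso_hom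
  obtain ⟨u, rfl⟩ : z ∈ Set.range (pullback.map (Spec.map (CommRingCat.ofHom (algebraMap A B)))
      (Spec.map (CommRingCat.ofHom (algebraMap A A'))) q g k a j hk.symm ha.symm) := by
    rw [Scheme.Pullback.range_map]
    exact ⟨h₁, h₂⟩
  obtain ⟨v, rfl⟩ := (pullbackSpecIso A B A').inv.surjective u
  obtain ⟨w, rfl⟩ := (Spec.map (CommRingCat.ofHom (Algebra.TensorProduct.comm A B A').toRingEquiv.toRingHom)).surjective v
  exact ⟨w, rfl⟩

/-- Compatibility of the charts with a morphism over `S`. -/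
theorem baseChart_map {Z : Scheme.{u}} (f : Z ⟶ Y) {C : Type u} [CommRing C] [Algebra A C]
    {l : Spec (CommRingCat.of C) ⟶ Z} (hl : l ≫ f ≫ q = Spec.map (CommRingCat.ofHom (algebraMap A C)) ≫ j)
    (φ : B →ₐ[A] C) (hlk : l ≫ f = Spec.map (CommRingCat.ofHom φ.toRingHom) ≫ k) :
    baseChart j hl ha ≫ pullback.map (f ≫ q) g q g f (𝟙 S') (𝟙 S) (Category.comp_id _)
        ((Category.comp_id _).trans (Category.id_comp _).symm) =
      Spec.map (CommRingCat.ofHom (Algebra.TensorProduct.map (AlgHom.id A A') φ).toRingHom) ≫ baseChart j hk ha := by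
  apply pullback.hom_ext
  · rw [Category.assoc, pullback.lift_fst, Category.assoc, baseChart_fst, reassoc_of% baseChart_fst j hl ha, hlk,
      ← Spec.map_comp_assoc, ← Spec.map_comp_assoc]
    refine congrArg (fun ψ => Spec.map ψ ≫ k) ?_
    ext b
    show (1 : A') ⊗ₜ[A] φ b = Algebra.TensorProduct.map _ φ ((1 : A') ⊗ₜ[A] b)
    rfl
  · rw [Category.assoc, pullback.lift_snd, Category.comp_id, Category.assoc, baseChart_snd, baseChart_snd,
      ← Spec.map_comp_assoc]
    refine congrArg (fun ψ => Spec.map ψ ≫ a) ?_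
    ext b
    show b ⊗ₜ[A] (1 : C) = Algebra.TensorProduct.map _ φ (b ⊗ₜ[A] (1 : B))
    rw [Algebra.TensorProduct.map_tmul, map_one]
    rfl

end BaseChart

/-- The rings of an open immersion of an affine scheme. -/
noncomputable def chartRingIso {X : Scheme.{u}} {R : CommRingCat.{u}} (c : Spec R ⟶ X) [IsOpenImmersion c] :
    Γ(X, c ''ᵁ ⊤) ≅ R :=
  c.appIso ⊤ ≪≫ Scheme.ΓSpecIso R

theorem fromSpec_chartRingIso {X : Scheme.{u}} {R : CommRingCat.{u}} (c : Spec R ⟶ X) [IsOpenImmersion c] :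
    Spec.map (chartRingIso c).hom ≫ ((isAffineOpen_top _).image_of_isOpenImmersion c).fromSpec = c := by
  simp only [chartRingIso, Iso.trans_hom, Scheme.Hom.appIso_hom']
  rw [Spec.map_comp, Category.assoc, IsAffineOpen.SpecMap_appLE_fromSpec c _ (isAffineOpen_top _) _]
  simp [IsAffineOpen.fromSpec_top]

/-- The converse of `schDom_of_local`: a dominant family on an affine chart. -/
theorem pow_mul_eq_zero_of_schDom_chart {X : Scheme.{u}} {ι : Type u} {Z : ι → Scheme.{u}} {f : ∀ i, Z i ⟶ X}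
    (hf : SchDom f) {R : CommRingCat.{u}} (c : Spec R ⟶ X) [IsOpenImmersion c] (b a : R)
    (h : ∀ (i : ι) (z : Z i), f i z ∈ Set.range c → ∃ (C : CommRingCat.{u}) (φ : R ⟶ C) (m : Spec C ⟶ Z i),
      IsOpenImmersion m ∧ z ∈ Set.range m ∧ m ≫ f i = Spec.map φ ≫ c ∧ ∃ k : ℕ, φ (b ^ k * a) = 0) :
    ∃ k : ℕ, b ^ k * a = 0 := by
  let U := c ''ᵁ ⊤
  have hU : IsAffineOpen U := (isAffineOpen_top _).image_of_isOpenImmersion c
  let e := chartRingIso c
  haveI := hU.isLocalization_basicOpen (e.inv b)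
  have h0 : algebraMap Γ(X, U) Γ(X, X.basicOpen (e.inv b)) (e.inv a) = 0 := by
    refine hf _ _ fun i => TopCat.Presheaf.section_ext (Z i).sheaf _ _ _ fun z hz => ?_
    have hzU : f i z ∈ U := X.basicOpen_le _ hz
    have hzc : f i z ∈ Set.range c := by
      obtain ⟨w, -, hw⟩ := hzU
      exact ⟨w, hw⟩
    obtain ⟨C, φ, m, hm, hzm, hmf, k, hk⟩ := h i z hzc
    let W := m ''ᵁ ⊤
    have hzW : z ∈ W := by
      obtain ⟨w, hw⟩ := hzm
      exact ⟨w, trivial, hw⟩
    have hW : IsAffineOpen W := (isAffineOpen_top _).image_of_isOpenImmersion m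
    have hWU : W ≤ f i ⁻¹ᵁ U := by
      rintro _ ⟨w, -, rfl⟩
      refine ⟨Spec.map φ w, trivial, ?_⟩
      show c (Spec.map φ w) = f i (m w)
      rw [← Scheme.Hom.comp_apply, ← hmf, Scheme.Hom.comp_apply]
    have hcomp : (f i).appLE U W hWU ≫ (chartRingIso m).hom = e.hom ≫ φ := by
      apply Spec.map_injective
      rw [← cancel_mono hU.fromSpec, Spec.map_comp, Spec.map_comp, Category.assoc, Category.assoc,
        IsAffineOpen.SpecMap_appLE_fromSpec (f i) hU hW hWU, fromSpec_chartRingIso c,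
        ← Category.assoc, fromSpec_chartRingIso m, hmf]
    let F := (f i).appLE U W hWU
    let W' := (Z i).basicOpen (F (e.inv b))
    have hW' : W' = W ⊓ f i ⁻¹ᵁ X.basicOpen (e.inv b) := by
      rw [Scheme.preimage_basicOpen]
      exact (Z i).basicOpen_res ((f i).app U (e.inv b)) (homOfLE hWU).op
    have hzW' : z ∈ W' := hW' ▸ ⟨hzW, hz⟩
    haveI := hW.isLocalization_basicOpen (F (e.inv b))
    have h3 : algebraMap Γ(Z i, W) Γ(Z i, W') (F (e.inv a)) = 0 := by
      refine (IsLocalization.map_eq_zero_iff (Submonoid.powers (F (e.inv b))) _ _).mpr ⟨⟨_, k, rfl⟩, ?_⟩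
      refine (ConcreteCategory.bijective_of_isIso (chartRingIso m).hom).1 ?_
      have h2 : ∀ r, (chartRingIso m).hom (F (e.inv r)) = φ r := fun r => by
        refine (ConcreteCategory.congr_hom hcomp (e.inv r)).trans ?_
        exact congrArg φ (Iso.inv_hom_id_apply e r)
      rw [map_mul, map_pow, h2, h2, map_zero, ← map_pow, ← map_mul, hk]
    refine Eq.trans ?_ (map_zero _).symm
    have h4 : (f i).appLE (X.basicOpen (e.inv b)) W' (hW'.trans_le inf_le_right)
        (algebraMap Γ(X, U) Γ(X, X.basicOpen (e.inv b)) (e.inv a)) = 0 := by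
      refine Eq.trans ?_ h3
      show ((X.presheaf.map (homOfLE (X.basicOpen_le (e.inv b))).op ≫ (f i).appLE (X.basicOpen (e.inv b)) W' _) (e.inv a)) =
        ((f i).appLE U W hWU ≫ (Z i).presheaf.map (homOfLE ((Z i).basicOpen_le _)).op) (e.inv a)
      rw [Scheme.Hom.map_appLE, Scheme.Hom.appLE_map]
    refine (TopCat.Presheaf.germ_res_apply (Z i).presheaf (homOfLE (hW'.trans_le inf_le_right)) z hzW' _).symm.trans ?_
    exact (congrArg ((Z i).presheaf.germ W' z hzW') h4).trans (map_zero _)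
  obtain ⟨⟨_, k, rfl⟩, hk⟩ := (IsLocalization.map_eq_zero_iff (Submonoid.powers (e.inv b)) _ (e.inv a)).mp h0
  refine ⟨k, (ConcreteCategory.bijective_of_isIso e.inv).1 ?_⟩
  rw [map_mul, map_pow, map_zero]
  exact hk

section Family

variable {S X : Scheme.{u}} (p : X ⟶ S) {ι : Type u} {Z : ι → Scheme.{u}} (f : ∀ i, Z i ⟶ X)

/-- The base change of the family along `g`. -/
noncomputable abbrev bcFam {S' : Scheme.{u}} (g : S' ⟶ S) (i : ι) : pullback (f i ≫ p) g ⟶ pullback p g :=
  pullback.map (f i ≫ p) g p g (f i) (𝟙 S') (𝟙 S) (Category.comp_id _) ((Category.comp_id _).trans (Category.id_comp _).symm)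

/-- The affine pieces of the family over an affine chart. -/
structure AffPiece {B : CommRingCat.{u}} (k : Spec B ⟶ X) where
  idx : ι
  W : (Z idx).Opens
  affine : IsAffineOpen W
  hom : B ⟶ Γ(Z idx, W)
  fac : affine.fromSpec ≫ f idx = Spec.map hom ≫ k

theorem exists_affPiece {B : CommRingCat.{u}} (k : Spec B ⟶ X) [IsOpenImmersion k] (i : ι) (z : Z i)
    (hz : f i z ∈ Set.range k) : ∃ (W : (Z i).Opens) (hW : IsAffineOpen W) (φ : B ⟶ Γ(Z i, W)),
      z ∈ W ∧ hW.fromSpec ≫ f i = Spec.map φ ≫ k := by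
  obtain ⟨_, ⟨W, hW, rfl⟩, hzW, hle⟩ := (Z i).isBasis_affineOpens.exists_subset_of_mem_open
    (show z ∈ (f i ⁻¹ᵁ k.opensRange : (Z i).Opens) from hz) (f i ⁻¹ᵁ k.opensRange).isOpen
  have hrange : Set.range (hW.fromSpec ≫ f i) ⊆ Set.range k := by
    rintro _ ⟨w, rfl⟩
    rw [Scheme.Hom.comp_apply]
    exact hle (hW.range_fromSpec.le ⟨w, rfl⟩)
  obtain ⟨φ, hφ⟩ := Spec.map_surjective (IsOpenImmersion.lift k (hW.fromSpec ≫ f i) hrange)
  exact ⟨W, hW, φ, hzW, by rw [hφ, IsOpenImmersion.lift_fac]⟩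

variable {A : Type u} [CommRing A] (j : Spec (CommRingCat.of A) ⟶ S) [IsOpenImmersion j]
  {B : Type u} [CommRing B] [Algebra A B] {k : Spec (CommRingCat.of B) ⟶ X} [IsOpenImmersion k]
  (hk : k ≫ p = Spec.map (CommRingCat.ofHom (algebraMap A B)) ≫ j)

/-- The base algebra on a piece. -/
noncomputable instance pieceAlgebra (w : AffPiece f k) : Algebra A Γ(Z w.idx, w.W) :=
  (w.hom.hom.comp (algebraMap A B)).toAlgebra

/-- The algebra map to a piece. -/
noncomputable def pieceHom (w : AffPiece f k) : B →ₐ[A] Γ(Z w.idx, w.W) :=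
  { w.hom.hom with commutes' := fun _ => rfl }

include hk in
theorem piece_fac (w : AffPiece f k) :
    w.affine.fromSpec ≫ f w.idx ≫ p = Spec.map (CommRingCat.ofHom (algebraMap A Γ(Z w.idx, w.W))) ≫ j := by
  rw [reassoc_of% w.fac, hk, ← Spec.map_comp_assoc]
  rfl

variable {S' : Scheme.{u}} {g : S' ⟶ S} {A' : Type u} [CommRing A'] [Algebra A A'] {a : Spec (CommRingCat.of A') ⟶ S'}
  [IsOpenImmersion a] (ha : a ≫ g = Spec.map (CommRingCat.ofHom (algebraMap A A')) ≫ j)

include hk ha in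
theorem domAt_of_schDom (h : SchDom (bcFam p f g)) : DomAt (fun w : AffPiece f k => pieceHom (A := A) f w) A' := by
  have key : ∀ (b z : A' ⊗[A] B), (∀ w : AffPiece f k, ∃ n : ℕ,
      Algebra.TensorProduct.map (AlgHom.id A A') (pieceHom (A := A) f w) (b ^ n * z) = 0) →
      ∀ (w : AffPiece f k) (x : ↥(pullback (f w.idx ≫ p) g)), pullback.fst (f w.idx ≫ p) g x ∈ w.W →
      pullback.snd (f w.idx ≫ p) g x ∈ Set.range a →
      ∃ (C : CommRingCat.{u}) (φ : CommRingCat.of (A' ⊗[A] B) ⟶ C) (m : Spec C ⟶ pullback (f w.idx ≫ p) g),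
        IsOpenImmersion m ∧ x ∈ Set.range m ∧ m ≫ bcFam p f g w.idx = Spec.map φ ≫ baseChart j hk ha ∧
          ∃ k : ℕ, φ (b ^ k * z) = 0 := fun b z hz w x hxW hsnd => by
    obtain ⟨n, hn⟩ := hz w
    exact ⟨CommRingCat.of (A' ⊗[A] Γ(Z w.idx, w.W)),
      CommRingCat.ofHom (Algebra.TensorProduct.map (AlgHom.id A A') (pieceHom (A := A) f w)).toRingHom,
      baseChart j (piece_fac p f j hk w) ha, isOpenImmersion_baseChart _ _ _,
      mem_range_baseChart _ _ _ (w.affine.range_fromSpec.symm.le hxW) hsnd,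
      baseChart_map j hk ha (f w.idx) _ (pieceHom (A := A) f w) w.fac, n, hn⟩
  intro b z hz
  haveI := isOpenImmersion_baseChart j hk ha
  refine pow_mul_eq_zero_of_schDom_chart h (baseChart j hk ha) b z fun i x hx => ?_
  have hfst : f i (pullback.fst (f i ≫ p) g x) ∈ Set.range k := by
    obtain ⟨v, hv⟩ := hx
    refine ⟨Spec.map (CommRingCat.ofHom (Algebra.TensorProduct.includeRight (R := A) (A := A') (B := B)).toRingHom) v, ?_⟩
    rw [← Scheme.Hom.comp_apply, ← baseChart_fst j hk ha, Scheme.Hom.comp_apply, hv, ← Scheme.Hom.comp_apply,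
      ← Scheme.Hom.comp_apply, pullback.lift_fst]
  have hsnd : pullback.snd (f i ≫ p) g x ∈ Set.range a := by
    obtain ⟨v, hv⟩ := hx
    refine ⟨Spec.map (CommRingCat.ofHom (Algebra.TensorProduct.includeLeftRingHom : A' →+* A' ⊗[A] B)) v, ?_⟩
    rw [← Scheme.Hom.comp_apply, ← baseChart_snd j hk ha, Scheme.Hom.comp_apply, hv, ← Scheme.Hom.comp_apply,
      pullback.lift_snd, Category.comp_id]
  obtain ⟨W, hW, φ, hxW, hφ⟩ := exists_affPiece f k i _ hfst
  exact key b z hz ⟨i, W, hW, φ, hφ⟩ x hxW hsnd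

include hk ha in
theorem schDom_local_of_domAt (h : DomAt (fun w : AffPiece f k => pieceHom (A := A) f w) A') (z : ↥(pullback p g))
    (hz₁ : pullback.fst p g z ∈ Set.range k) (hz₂ : pullback.snd p g z ∈ Set.range a) :
    ∃ (U : (pullback p g).Opens) (hU : IsAffineOpen U), z ∈ U ∧ ∀ b y : ((pullback p g).presheaf.obj (Opposite.op U) : CommRingCat.{u}),
      (∀ (i : ι) (C : CommRingCat.{u}) (φ : (pullback p g).presheaf.obj (Opposite.op U) ⟶ C) (m : Spec C ⟶ pullback (f i ≫ p) g),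
        m ≫ bcFam p f g i = Spec.map φ ≫ hU.fromSpec → ∃ n : ℕ, φ (b ^ n * y) = 0) →
      ∃ n : ℕ, b ^ n * y = 0 := by
  haveI := isOpenImmersion_baseChart j hk ha
  let c := baseChart j hk ha
  obtain ⟨v, hv⟩ := mem_range_baseChart j hk ha hz₁ hz₂
  refine ⟨c ''ᵁ ⊤, (isAffineOpen_top _).image_of_isOpenImmersion c, ⟨v, trivial, hv⟩, fun b y hy => ?_⟩
  let e := chartRingIso c
  obtain ⟨n, hn⟩ := h (e.hom b) (e.hom y) fun w => by
    let ξ := CommRingCat.ofHom (Algebra.TensorProduct.map (AlgHom.id A A') (pieceHom (A := A) f w)).toRingHom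
    obtain ⟨n, hn⟩ := hy w.idx _ (e.hom ≫ ξ) (baseChart j (piece_fac p f j hk w) ha) (by
      rw [Spec.map_comp, Category.assoc, fromSpec_chartRingIso]
      exact baseChart_map j hk ha (f w.idx) _ (pieceHom (A := A) f w) w.fac)
    exact ⟨n, by rw [← map_pow, ← map_mul]; exact hn⟩
  refine ⟨n, (ConcreteCategory.bijective_of_isIso e.hom).1 ?_⟩
  rw [map_mul, map_pow, hn, map_zero]

end Family

end Groth.FlatDescent.Dom
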