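import Groth.Agent.FlatDescent.Dom.Point
import Groth.Agent.FlatDescent.Trunc.Descent

/-!
# Regular on the fibre implies universally regular, for flat finitely presented algebras
-/

universe u

open TensorProduct

namespace Groth.FlatDescent.Dom

/-- Enlarging a flat stage. -/
theorem exists_stage_containing {A₀ A B₀ : Type u} [CommRing A₀] [IsNoetherianRing A₀] [CommRing A] [Algebra A₀ A]
    [CommRing B₀] [Algebra A₀ B₀] [Algebra.FiniteType A₀ B₀] (S : Subalgebra A₀ A) (hS : S.FG)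
    (hflat : Module.Flat S (S ⊗[A₀] B₀)) (x : A ⊗[A₀] B₀) :
    ∃ (A₁ : Type u) (_ : CommRing A₁) (_ : Algebra A₁ A) (B₁ : Type u) (_ : CommRing B₁) (_ : Algebra A₁ B₁)
      (_ : IsNoetherianRing B₁) (_ : Module.Flat A₁ B₁) (e : A ⊗[A₁] B₁ ≃ₐ[A] A ⊗[A₀] B₀) (f₁ : B₁),
        e (1 ⊗ₜ f₁) = x := by
  obtain ⟨R', hR', hsub⟩ := TensorProduct.exists_finite_submodule_left_of_setFinite ({x} : Set (A ⊗[A₀] B₀))
    (Set.toFinite _)
  obtain ⟨s, hs⟩ := Module.Finite.iff_fg.mp hR'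
  obtain ⟨T, hST, hsT, hT⟩ : ∃ T : Subalgebra A₀ A, S ≤ T ∧ (s : Set A) ⊆ T ∧ T.FG :=
    ⟨S ⊔ Algebra.adjoin A₀ (s : Set A), le_sup_left,
      fun a ha => (le_sup_right : _ ≤ S ⊔ Algebra.adjoin A₀ (s : Set A)) (Algebra.subset_adjoin ha),
      hS.sup (Subalgebra.fg_adjoin_finset s)⟩
  have hle : R' ≤ Subalgebra.toSubmodule T := hs ▸ Submodule.span_le.mpr hsT
  letI : Algebra S T := (Subalgebra.inclusion hST).toRingHom.toAlgebra
  haveI : IsScalarTower A₀ S T := IsScalarTower.of_algebraMap_eq fun _ => rfl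
  haveI : Module.Flat T (T ⊗[A₀] B₀) :=
    Module.Flat.of_linearEquiv (AlgebraTensorModule.cancelBaseChange A₀ S T T B₀).symm
  haveI : Algebra.FiniteType A₀ T := ⟨T.fg_top.mpr hT⟩
  haveI : Algebra.FiniteType A₀ (T ⊗[A₀] B₀) := Algebra.FiniteType.trans (S := T) inferInstance inferInstance
  haveI : IsNoetherianRing (T ⊗[A₀] B₀) := Algebra.FiniteType.isNoetherianRing A₀ (T ⊗[A₀] B₀)
  obtain ⟨v, hv⟩ := hsub rfl
  refine ⟨T, inferInstance, inferInstance, T ⊗[A₀] B₀, inferInstance, inferInstance, inferInstance, inferInstance,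
    Algebra.TensorProduct.cancelBaseChange A₀ T A A B₀, (Submodule.inclusion hle).rTensor B₀ v, ?_⟩
  rw [← hv]
  clear hv
  induction v using TensorProduct.induction_on with
  | zero => simp only [map_zero, tmul_zero]
  | add p q hp hq => simp only [map_add, tmul_add, hp, hq]
  | tmul a b =>
    rw [LinearMap.rTensor_tmul, Algebra.TensorProduct.cancelBaseChange_tmul]
    exact congrArg (· ⊗ₜ[A₀] b) (mul_one ((a : A)))

/-- A Noetherian flat model with a given element. -/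
theorem exists_flat_stage (A B : Type u) [CommRing A] [CommRing B] [Algebra A B] [Algebra.FinitePresentation A B]
    [Module.Flat A B] (f : B) :
    ∃ (A₁ : Type u) (_ : CommRing A₁) (_ : Algebra A₁ A) (B₁ : Type u) (_ : CommRing B₁) (_ : Algebra A₁ B₁)
      (_ : IsNoetherianRing B₁) (_ : Module.Flat A₁ B₁) (e : A ⊗[A₁] B₁ ≃ₐ[A] B) (f₁ : B₁), e (1 ⊗ₜ f₁) = f := by
  classical
  let P := Algebra.Presentation.ofFinitePresentation A B
  let e₀ : A ⊗[P.Core] P.ModelOfHasCoeffs P.Core ≃ₐ[A] B := P.tensorModelOfHasCoeffsEquiv P.Core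
  haveI : Module.Flat A (A ⊗[P.Core] P.ModelOfHasCoeffs P.Core) := Module.Flat.of_linearEquiv e₀.toLinearEquiv
  obtain ⟨i, hi⟩ := (flat_iff_exists_stage (fun (i j : {S : Subalgebra P.Core A // S.FG}) (h : i ≤ j) =>
    Subalgebra.inclusion h) (Trunc.isDirectedColimit_fgSubalgebra P.Core A) (B₀ := P.ModelOfHasCoeffs P.Core) (P.ModelOfHasCoeffs P.Core)).mp inferInstance
  haveI : IsNoetherianRing P.Core := Algebra.FiniteType.isNoetherianRing ℤ P.Core
  obtain ⟨A₁, i₁, i₂, B₁, i₃, i₄, i₅, i₆, e, f₁, hf⟩ := exists_stage_containing i.1 i.2 hi (e₀.symm f)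
  exact ⟨A₁, i₁, i₂, B₁, i₃, i₄, i₅, i₆, e.trans e₀, f₁, by rw [AlgEquiv.trans_apply, hf, AlgEquiv.apply_symm_apply]⟩

/-- Fibre regularity descends along a base change. -/
theorem FibreReg.descend {A B A₁ B₁ : Type u} [CommRing A] [CommRing B] [Algebra A B] [CommRing A₁] [Algebra A₁ A]
    [CommRing B₁] [Algebra A₁ B₁] (e : A ⊗[A₁] B₁ ≃ₐ[A] B) (P : Ideal B) [P.IsPrime] (f₁ : B₁) {φ : B₁ →+* B}
    (hφ : ∀ b, φ b = e (1 ⊗ₜ b)) (hf : FibreReg A P (φ f₁)) :
    haveI : (P.comap φ).IsPrime := inferInstance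
    FibreReg A₁ (P.comap φ) f₁ := by
  intro z hz
  by_contra hall
  push Not at hall
  let q := P.comap (algebraMap A B)
  let q₁ := (P.comap φ).comap (algebraMap A₁ B₁)
  have hcomm : ∀ a, φ (algebraMap A₁ B₁ a) = algebraMap A B (algebraMap A₁ A a) := fun a => by
    rw [hφ, ← Algebra.TensorProduct.tmul_one_eq_one_tmul, ← e.commutes]
    rfl
  have hq : q₁ = q.comap (algebraMap A₁ A) := by
    ext a
    show φ (algebraMap A₁ B₁ a) ∈ P ↔ algebraMap A B (algebraMap A₁ A a) ∈ P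
    rw [hcomm]
  let K := q.ResidueField
  let K₁ := q₁.ResidueField
  let jq : K₁ →+* K := Ideal.ResidueField.map q₁ q (algebraMap A₁ A) hq
  letI : Algebra K₁ K := jq.toAlgebra
  haveI : IsScalarTower A₁ K₁ K := IsScalarTower.of_algebraMap_eq fun a => by
    rw [IsScalarTower.algebraMap_apply A₁ A K]
    exact (Ideal.ResidueField.map_algebraMap q₁ q (algebraMap A₁ A) hq a).symm
  let E : K ⊗[K₁] (K₁ ⊗[A₁] B₁) ≃ₐ[K] K ⊗[A] B :=
    ((Algebra.TensorProduct.cancelBaseChange A₁ K₁ K K B₁).trans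
      (Algebra.TensorProduct.cancelBaseChange A₁ A K K B₁).symm).trans
      (Algebra.TensorProduct.congr AlgEquiv.refl e)
  have hE : ∀ (b : B₁), E (1 ⊗ₜ ((1 : K₁) ⊗ₜ b)) = 1 ⊗ₜ φ b := fun b => by
    simp [E, hφ]
  obtain ⟨t, ht, htz⟩ := hf (E (1 ⊗ₜ z)) (by
    rw [← hE, ← map_mul, Algebra.TensorProduct.tmul_mul_tmul, hz, tmul_zero, map_zero])
  let bK := Module.Free.chooseBasis K₁ K
  let v := E.symm (1 ⊗ₜ t)
  let co := TensorProduct.equivFinsuppOfBasisLeft (N := K₁ ⊗[A₁] B₁) bK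
  have hv : v = ∑ j ∈ (co v).support, bK j ⊗ₜ co v j := by
    conv_lhs => rw [← co.symm_apply_apply v]
    rw [TensorProduct.equivFinsuppOfBasisLeft_symm_apply]
    rfl
  have hkill : ∀ j, co v j * z = 0 := by
    intro j
    have h0 : v * (1 ⊗ₜ z) = 0 := E.injective (by rw [map_mul, AlgEquiv.apply_symm_apply, htz, map_zero])
    have h1 : ∀ w : K ⊗[K₁] (K₁ ⊗[A₁] B₁), co (w * (1 ⊗ₜ z)) j = co w j * z := fun w => by
      induction w using TensorProduct.induction_on with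
      | zero => simp
      | add p q hp hq => simp only [add_mul, map_add, Finsupp.coe_add, Pi.add_apply, hp, hq]
      | tmul k x =>
        rw [Algebra.TensorProduct.tmul_mul_tmul, mul_one, TensorProduct.equivFinsuppOfBasisLeft_apply_tmul_apply,
          TensorProduct.equivFinsuppOfBasisLeft_apply_tmul_apply, smul_mul_assoc]
    rw [← h1, h0, map_zero, Finsupp.coe_zero, Pi.zero_apply]
  let F := P.ResidueField
  let iK : K →ₐ[A] F := Ideal.ResidueField.mapₐ q P (Algebra.ofId A B) rfl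
  let Λ : K ⊗[A] B →ₐ[A] F := Algebra.TensorProduct.lift iK (IsScalarTower.toAlgHom A B F) fun _ _ => Commute.all _ _
  have hΛ : ∀ b, Λ (1 ⊗ₜ b) = algebraMap B F b := fun b => by simp [Λ]
  have hzero : Λ (E v) = 0 := by
    rw [hv, map_sum, map_sum]
    refine Finset.sum_eq_zero fun j _ => ?_
    obtain ⟨a, ha, s, has⟩ := Ideal.Fiber.exists_smul_eq_one_tmul _ (co v j)
    have hsz : ((1 : K₁) ⊗ₜ[A₁] s) * z = 0 := by rw [← has, smul_mul_assoc, hkill, smul_zero]
    have hsP : φ s ∈ P := by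
      by_contra hs
      exact hall s hs hsz
    have h2 : a • (bK j ⊗ₜ[K₁] co v j) = (bK j ⊗ₜ[K₁] (1 : K₁ ⊗[A₁] B₁)) * (1 ⊗ₜ ((1 : K₁) ⊗ₜ[A₁] s)) := by
      rw [Algebra.TensorProduct.tmul_mul_tmul, mul_one, one_mul, ← has, ← tmul_smul]
    have h3 : algebraMap A F (algebraMap A₁ A a) * Λ (E (bK j ⊗ₜ[K₁] co v j)) = 0 := by
      have h5 : algebraMap A F (algebraMap A₁ A a) * Λ (E (bK j ⊗ₜ[K₁] co v j)) = Λ (E (a • (bK j ⊗ₜ[K₁] co v j))) := by
        rw [← algebraMap_smul K a (bK j ⊗ₜ[K₁] co v j), map_smul, Algebra.smul_def, map_mul,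
          Algebra.TensorProduct.algebraMap_apply]
        refine congrArg (· * _) ?_
        simp [Λ, IsScalarTower.algebraMap_apply A₁ A K]
      rw [h5, h2, map_mul, map_mul, hE, hΛ, Ideal.algebraMap_residueField_eq_zero.mpr hsP, mul_zero]
    refine (mul_eq_zero.mp h3).resolve_left fun h4 => ha ?_
    rw [IsScalarTower.algebraMap_apply A B F, Ideal.algebraMap_residueField_eq_zero] at h4
    rw [hq]
    exact h4
  rw [AlgEquiv.apply_symm_apply, hΛ, Ideal.algebraMap_residueField_eq_zero] at hzero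
  exact ht hzero

/-- **An element regular on the fibre through `P` is universally regular at `P`.** -/
theorem exists_tmul_mul_eq_zero_of_fibreReg {A B : Type u} [CommRing A] [CommRing B] [Algebra A B]
    [Algebra.FinitePresentation A B] [Module.Flat A B] (P : Ideal B) [P.IsPrime] (f : B) (hf : FibreReg A P f)
    (A' : Type u) [CommRing A'] [Algebra A A'] (y : A' ⊗[A] B) (hy : ((1 : A') ⊗ₜ[A] f) * y = 0) :
    ∃ t : B, t ∉ P ∧ ((1 : A') ⊗ₜ[A] t) * y = 0 := by
  obtain ⟨A₁, _, _, B₁, _, _, _, _, e, f₁, rfl⟩ := exists_flat_stage A B f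
  let φ : B₁ →+* B := e.toRingHom.comp (Algebra.TensorProduct.includeRight (R := A₁) (A := A) (B := B₁)).toRingHom
  have hf₁ := FibreReg.descend e P f₁ (φ := φ) (fun b => rfl) hf
  letI : Algebra A₁ A' := ((algebraMap A A').comp (algebraMap A₁ A)).toAlgebra
  haveI : IsScalarTower A₁ A A' := IsScalarTower.of_algebraMap_eq fun _ => rfl
  let T : A' ⊗[A] B ≃ₐ[A'] A' ⊗[A₁] B₁ :=
    (Algebra.TensorProduct.congr AlgEquiv.refl e.symm).trans (Algebra.TensorProduct.cancelBaseChange A₁ A A' A' B₁)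
  have hT : ∀ b : B₁, T (1 ⊗ₜ φ b) = 1 ⊗ₜ b := fun b => by
    simp [T, φ]
  let C := Algebra.TensorProduct.comm A₁ B₁ A'
  have hC : ∀ (b : B₁) (v : B₁ ⊗[A₁] A'), C (b • v) = ((1 : A') ⊗ₜ[A₁] b) * C v := fun b v => by
    rw [Algebra.smul_def, map_mul]
    refine congrArg (· * C v) ?_
    show C (b ⊗ₜ[A₁] (1 : A')) = _
    exact Algebra.TensorProduct.comm_tmul _ _ _
  obtain ⟨t, ht, hty⟩ := exists_smul_eq_zero_of_fibreReg hf₁ A' (C.symm (T y)) (C.injective (by
    rw [hC, AlgEquiv.apply_symm_apply, ← hT, ← map_mul, map_zero]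
    exact (congrArg T hy).trans (map_zero T)))
  refine ⟨φ t, ht, T.injective ?_⟩
  rw [map_mul, hT, map_zero, ← C.apply_symm_apply (T y), ← hC, hty, map_zero]

end Groth.FlatDescent.Dom
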