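import Groth.Prelude.Def_CInt
import Groth.Agent.FlatDescent.Dom.Chart
import Groth.Agent.FlatDescent.Dom.Regular

/-!
# Schematically dense opens of flat finitely presented morphisms
-/

universe u

open AlgebraicGeometry CategoryTheory CategoryTheory.Limits TensorProduct

namespace Groth.FlatDescent.Dom

theorem schDom_ι_iff {X : Scheme.{u}} (U : X.Opens) :
    CInt.IsSchematicallyDense U ↔ SchDom (fun _ : PUnit.{u+1} => U.ι) := by
  have h : ∀ (V : X.Opens) (t : Γ(X, V)),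
      X.presheaf.map (homOfLE (inf_le_left : V ⊓ U ≤ V)).op t = 0 ↔ U.ι.app V t = 0 := by
    intro V t
    rw [Scheme.Opens.ι_app]
    have hle : U.ι ''ᵁ U.ι ⁻¹ᵁ V = V ⊓ U := by rw [Scheme.Hom.image_preimage_eq_opensRange_inf, Scheme.Opens.opensRange_ι, inf_comm]
    have h2 : X.presheaf.map (homOfLE (inf_le_left : V ⊓ U ≤ V)).op =
        X.presheaf.map (homOfLE (hle.trans_le inf_le_left)).op ≫ X.presheaf.map (eqToHom hle.symm).op := by
      rw [← Functor.map_comp]
      rfl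
    rw [h2, CommRingCat.comp_apply]
    exact map_eq_zero_iff _ (ConcreteCategory.bijective_of_isIso (X.presheaf.map (eqToHom hle.symm).op)).1
  constructor
  · intro hd V t ht
    exact hd V (((h V t).mpr (ht PUnit.unit)).trans (map_zero _).symm)
  · intro hd V a b hab
    refine sub_eq_zero.mp (hd V (a - b) fun _ => (h V (a - b)).mp ?_)
    rw [map_sub, hab, sub_self]

/-- An element of `J` regular on the fibre at `P`. -/
theorem exists_fibreReg {A B : Type u} [CommRing A] [CommRing B] [Algebra A B] [Algebra.FiniteType A B] (P : Ideal B)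
    [P.IsPrime] (J : Ideal B)
    (hJ : ∀ w : (P.comap (algebraMap A B)).ResidueField ⊗[A] B,
      (∀ r ∈ J, ((1 : (P.comap (algebraMap A B)).ResidueField) ⊗ₜ[A] r) * w = 0) → w = 0) :
    ∃ r ∈ J, FibreReg A P r := by
  let q := P.comap (algebraMap A B)
  let F := q.ResidueField ⊗[A] B
  letI : Algebra B F := Algebra.TensorProduct.rightAlgebra
  haveI : IsNoetherianRing F := Algebra.FiniteType.isNoetherianRing q.ResidueField F
  let Λ : F →ₐ[A] P.ResidueField :=
    Algebra.TensorProduct.lift (Ideal.ResidueField.mapₐ q P (Algebra.ofId A B) rfl)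
      (IsScalarTower.toAlgHom A B P.ResidueField) fun _ _ => Commute.all _ _
  haveI : (RingHom.ker Λ.toRingHom).IsPrime := RingHom.ker_isPrime _
  obtain ⟨r, hrJ, hr⟩ := exists_regular_element (F := F) (RingHom.ker Λ.toRingHom) J hJ
  refine ⟨r, hrJ, fun w hw => ?_⟩
  obtain ⟨s, hs, hsw⟩ := hr w hw
  obtain ⟨a, ha, t, hat⟩ := Ideal.Fiber.exists_smul_eq_one_tmul q s
  refine ⟨t, fun ht => hs ?_, (congrArg (fun z : F => z * w) hat).symm.trans (((smul_mul_assoc a s w).trans (congrArg (a • ·) hsw)).trans (smul_zero a))⟩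
  have h1 : algebraMap A P.ResidueField a * Λ s = Λ ((1 : q.ResidueField) ⊗ₜ[A] t) :=
    ((Algebra.smul_def _ _).symm.trans (map_smul Λ a s).symm).trans (congrArg Λ hat)
  have h2 : algebraMap B P.ResidueField t = 0 := Ideal.algebraMap_residueField_eq_zero.mpr ht
  have h4 : Λ ((1 : q.ResidueField) ⊗ₜ[A] t) = 0 := by
    show Ideal.ResidueField.mapₐ q P _ rfl 1 * algebraMap B P.ResidueField t = 0
    rw [h2, mul_zero]
  rw [h4] at h1
  refine (mul_eq_zero.mp h1).resolve_left fun h3 => ha ?_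
  rw [IsScalarTower.algebraMap_apply A B P.ResidueField, Ideal.algebraMap_residueField_eq_zero] at h3
  exact h3

/-- Test morphisms into an open subscheme from basic opens of a chart. -/
theorem exists_test {X : Scheme.{u}} (U : X.Opens) {R : CommRingCat.{u}} (c : Spec R ⟶ X) [IsOpenImmersion c] (r : R)
    (hr : ∀ p : PrimeSpectrum R, r ∉ p.asIdeal → c p ∈ U) :
    ∃ m : Spec (CommRingCat.of (Localization.Away r)) ⟶ U, IsOpenImmersion m ∧
      m ≫ U.ι = Spec.map (CommRingCat.ofHom (algebraMap R (Localization.Away r))) ≫ c ∧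
      ∀ p : PrimeSpectrum R, r ∉ p.asIdeal → ∀ z : U, U.ι z = c p → z ∈ Set.range m := by
  let lc := Spec.map (CommRingCat.ofHom (algebraMap R (Localization.Away r))) ≫ c
  haveI : IsOpenImmersion (Spec.map (CommRingCat.ofHom (algebraMap R (Localization.Away r)))) :=
    IsOpenImmersion.of_isLocalization r
  have hrange : Set.range lc ⊆ Set.range U.ι := by
    rintro _ ⟨p, rfl⟩
    rw [Scheme.Opens.range_ι]
    exact hr (Spec.map (CommRingCat.ofHom (algebraMap R (Localization.Away r))) p) fun hmem =>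
      p.2.ne_top (Ideal.eq_top_of_isUnit_mem _ hmem (IsLocalization.Away.algebraMap_isUnit r))
  refine ⟨IsOpenImmersion.lift U.ι lc hrange, ?_, IsOpenImmersion.lift_fac _ _ _, fun p hp z hz => ?_⟩
  · haveI : IsOpenImmersion (IsOpenImmersion.lift U.ι lc hrange ≫ U.ι) := by
      rw [IsOpenImmersion.lift_fac]; infer_instance
    exact IsOpenImmersion.of_comp _ U.ι
  · obtain ⟨w, hw⟩ : p ∈ Set.range (PrimeSpectrum.comap (algebraMap R (Localization.Away r))) := by
      rw [PrimeSpectrum.localization_away_comap_range (Localization.Away r) r]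
      exact hp
    refine ⟨w, U.ι.injective ?_⟩
    rw [← Scheme.Hom.comp_apply, IsOpenImmersion.lift_fac, hz, Scheme.Hom.comp_apply]
    exact congrArg c hw

/-- The point of an affine chart as a chart of the spectrum of a residue field. -/
theorem exists_residueChart {S : Scheme.{u}} {A : Type u} [CommRing A] (j : Spec (CommRingCat.of A) ⟶ S)
    [IsOpenImmersion j] (q : PrimeSpectrum A) :
    ∃ a : Spec (CommRingCat.of q.asIdeal.ResidueField) ⟶ Spec (S.residueField (j q)), IsOpenImmersion a ∧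
      a ≫ S.fromSpecResidueField (j q) =
        Spec.map (CommRingCat.ofHom (algebraMap A q.asIdeal.ResidueField)) ≫ j := by
  refine ⟨Spec.map (Scheme.Spec.residueFieldIso (CommRingCat.of A) q).hom ≫ Spec.map (j.residueFieldMap q),
    inferInstance, ?_⟩
  have h1 : Spec.map (j.residueFieldMap q) ≫ S.fromSpecResidueField (j q) =
      (Spec (CommRingCat.of A)).fromSpecResidueField q ≫ j := Scheme.Hom.SpecMap_residueFieldMap_fromSpecResidueField j q
  rw [Category.assoc, h1, ← Scheme.Spec.map_residueFieldIso_inv_eq_fromSpecResidueField (CommRingCat.of A) q]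
  simp only [← Category.assoc, ← Spec.map_comp, Iso.inv_hom_id, Spec.map_id, Category.id_comp]
  simp

/-- **Fibrewise schematically dense opens are universally schematically dense.** -/
theorem isSchematicallyDense_preimage {X S : Scheme.{u}} (f : X ⟶ S) [Flat f] [LocallyOfFinitePresentation f]
    (U : X.Opens) (h : ∀ s : S, CInt.IsSchematicallyDense ((f.fiberι s) ⁻¹ᵁ U)) {S' : Scheme.{u}} (g : S' ⟶ S) :
    CInt.IsSchematicallyDense ((pullback.fst f g) ⁻¹ᵁ U) := by
  rw [schDom_ι_iff]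
  refine schDom_of_local _ fun z => ?_
  obtain ⟨_, ⟨S₀, hS₀, rfl⟩, hxS₀, -⟩ :=
    S.isBasis_affineOpens.exists_subset_of_mem_open (Set.mem_univ (f (pullback.fst f g z))) isOpen_univ
  obtain ⟨_, ⟨V, hV, rfl⟩, hxV, hVle⟩ := X.isBasis_affineOpens.exists_subset_of_mem_open
    (show pullback.fst f g z ∈ (f ⁻¹ᵁ S₀ : X.Opens) from hxS₀) (f ⁻¹ᵁ S₀).isOpen
  have hzT' : g (pullback.snd f g z) ∈ S₀ := by
    rw [← Scheme.Hom.comp_apply, ← pullback.condition, Scheme.Hom.comp_apply]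
    exact hxS₀
  obtain ⟨_, ⟨T, hT, rfl⟩, hzT, hTle⟩ := S'.isBasis_affineOpens.exists_subset_of_mem_open
    (show pullback.snd f g z ∈ (g ⁻¹ᵁ S₀ : S'.Opens) from hzT') (g ⁻¹ᵁ S₀).isOpen
  letI : Algebra Γ(S, S₀) Γ(X, V) := (f.appLE S₀ V hVle).hom.toAlgebra
  letI : Algebra Γ(S, S₀) Γ(S', T) := (g.appLE S₀ T hTle).hom.toAlgebra
  haveI : Algebra.FinitePresentation Γ(S, S₀) Γ(X, V) :=
    HasRingHomProperty.appLE (P := @LocallyOfFinitePresentation) f inferInstance ⟨S₀, hS₀⟩ ⟨V, hV⟩ hVle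
  haveI : Module.Flat Γ(S, S₀) Γ(X, V) :=
    HasRingHomProperty.appLE (P := @Flat) f inferInstance ⟨S₀, hS₀⟩ ⟨V, hV⟩ hVle
  have hk : hV.fromSpec ≫ f = Spec.map (CommRingCat.ofHom (algebraMap Γ(S, S₀) Γ(X, V))) ≫ hS₀.fromSpec :=
    (IsAffineOpen.SpecMap_appLE_fromSpec f hS₀ hV hVle).symm
  have ha : hT.fromSpec ≫ g = Spec.map (CommRingCat.ofHom (algebraMap Γ(S, S₀) Γ(S', T))) ≫ hS₀.fromSpec :=
    (IsAffineOpen.SpecMap_appLE_fromSpec g hS₀ hT hTle).symm
  -- the ideal of the complement of `U`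
  let W : Set (PrimeSpectrum Γ(X, V)) := {P | hV.fromSpec P ∈ U}
  have hW : IsOpen W := (hV.fromSpec ⁻¹ᵁ U).isOpen
  let J : Ideal Γ(X, V) := PrimeSpectrum.vanishingIdeal Wᶜ
  have hJ₁ : ∀ r ∈ J, ∀ P : PrimeSpectrum Γ(X, V), r ∉ P.asIdeal → hV.fromSpec P ∈ U := fun r hr P hP => by
    by_contra hPU
    exact hP ((PrimeSpectrum.mem_vanishingIdeal _ _).mp hr P hPU)
  have hJ₂ : ∀ P : PrimeSpectrum Γ(X, V), hV.fromSpec P ∈ U → ∃ r ∈ J, r ∉ P.asIdeal := fun P hP => by
    obtain ⟨_, ⟨r, rfl⟩, hPr, hrU⟩ := PrimeSpectrum.isTopologicalBasis_basic_opens.exists_subset_of_mem_open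
      (show P ∈ W from hP) hW
    refine ⟨r, (PrimeSpectrum.mem_vanishingIdeal _ _).mpr fun P' hP' => ?_, hPr⟩
    by_contra hr
    exact hP' (hrU hr)
  haveI := isOpenImmersion_baseChart hS₀.fromSpec hk ha
  let c := baseChart hS₀.fromSpec hk ha
  haveI : IsOpenImmersion c := isOpenImmersion_baseChart hS₀.fromSpec hk ha
  obtain ⟨v, hv⟩ := mem_range_baseChart hS₀.fromSpec hk ha (hV.range_fromSpec.symm.le hxV) (hT.range_fromSpec.symm.le hzT)
  refine ⟨c ''ᵁ ⊤, (isAffineOpen_top _).image_of_isOpenImmersion c, ⟨v, trivial, hv⟩, fun b y hy => ?_⟩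
  let e := chartRingIso c
  let R := Γ(S', T) ⊗[Γ(S, S₀)] Γ(X, V)
  suffices hrad : (e.hom b : R) ∈ Ideal.radical (LinearMap.ker (LinearMap.toSpanSingleton R R (e.hom y)) : Ideal R) by
    obtain ⟨n, hn⟩ := hrad
    refine ⟨n, (ConcreteCategory.bijective_of_isIso e.hom).1 ?_⟩
    rw [map_mul, map_pow, map_zero]
    exact hn
  rw [Ideal.radical_eq_sInf, Submodule.mem_sInf]
  intro P' hP'
  obtain ⟨P₁, rfl⟩ : ∃ P₁ : Ideal R, P₁ = P' := ⟨P', rfl⟩
  obtain ⟨hle, hP₁⟩ := hP'
  by_contra hb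
  let P : PrimeSpectrum Γ(X, V) := ⟨Ideal.comap (Algebra.TensorProduct.includeRight (R := Γ(S, S₀)) (A := Γ(S', T))
    (B := Γ(X, V))).toRingHom P₁, inferInstance⟩
  let q : PrimeSpectrum Γ(S, S₀) := PrimeSpectrum.comap (algebraMap Γ(S, S₀) Γ(X, V)) P
  -- an element regular on the fibre
  let K := q.asIdeal.ResidueField
  let F := K ⊗[Γ(S, S₀)] Γ(X, V)
  letI : Algebra Γ(X, V) F := Algebra.TensorProduct.rightAlgebra
  haveI : IsNoetherianRing F := Algebra.FiniteType.isNoetherianRing K F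
  have hdense : ∀ w : F, (∀ r ∈ J, algebraMap Γ(X, V) F r * w = 0) → w = 0 := by
    intro w hw
    obtain ⟨s, hs⟩ : ∃ s, s = hS₀.fromSpec q := ⟨_, rfl⟩
    subst hs
    obtain ⟨a, _, hq⟩ := exists_residueChart hS₀.fromSpec q
    haveI := isOpenImmersion_baseChart hS₀.fromSpec hk hq
    let cq : Spec (CommRingCat.of F) ⟶ f.fiber (hS₀.fromSpec q) := baseChart hS₀.fromSpec hk hq
    haveI : IsOpenImmersion cq := isOpenImmersion_baseChart hS₀.fromSpec hk hq
    obtain ⟨n, hn⟩ := pow_mul_eq_zero_of_schDom_chart ((schDom_ι_iff _).mp (h (hS₀.fromSpec q))) cq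
      (1 : CommRingCat.of F) w fun _ x hx => by
        obtain ⟨p, hp⟩ := hx
        have hxU : (f.fiberι (hS₀.fromSpec q)) (cq p) ∈ U := by
          show ((cq p : ↥(f.fiber (hS₀.fromSpec q))) ∈ (f.fiberι (hS₀.fromSpec q)) ⁻¹ᵁ U)
          exact hp.symm ▸ x.2
        have hfst : ∀ p' : PrimeSpectrum F, pullback.fst f _ (cq p') =
            hV.fromSpec (PrimeSpectrum.comap (algebraMap Γ(X, V) F) p') := fun p' => by
          exact congrArg (fun φ : Spec (CommRingCat.of F) ⟶ X => φ p') (baseChart_fst hS₀.fromSpec hk hq)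
        obtain ⟨r, hrJ, hrp⟩ := hJ₂ (PrimeSpectrum.comap (algebraMap Γ(X, V) F) p) (hfst p ▸ hxU)
        obtain ⟨m, hm, hmfac, hmrange⟩ := exists_test ((f.fiberι (hS₀.fromSpec q)) ⁻¹ᵁ U) cq (algebraMap Γ(X, V) F r)
          fun p' hp' => by
            show pullback.fst f _ (cq p') ∈ U
            rw [hfst p']
            exact hJ₁ r hrJ _ hp'
        refine ⟨_, _, m, hm, hmrange p hrp x hp.symm, hmfac, 0, ?_⟩
        show algebraMap F (Localization.Away (algebraMap Γ(X, V) F r)) (1 ^ 0 * w) = 0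
        rw [pow_zero, one_mul]
        exact (IsLocalization.map_eq_zero_iff (Submonoid.powers (algebraMap Γ(X, V) F r)) _ w).mpr
          ⟨⟨_, 1, rfl⟩, by simpa using hw r hrJ⟩
    rwa [one_pow, one_mul] at hn
  obtain ⟨r, hrJ, hreg⟩ := exists_fibreReg P.asIdeal J hdense
  -- the test morphism
  let rR : R := (1 : Γ(S', T)) ⊗ₜ[Γ(S, S₀)] r
  obtain ⟨m, hm, hmfac, -⟩ := exists_test ((pullback.fst f g) ⁻¹ᵁ U) c (R := CommRingCat.of R) rR fun p hp => by
    show pullback.fst f g (c p) ∈ U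
    rw [← Scheme.Hom.comp_apply, baseChart_fst, Scheme.Hom.comp_apply]
    exact hJ₁ r hrJ _ hp
  obtain ⟨n, hn⟩ := hy PUnit.unit _ (e.hom ≫ CommRingCat.ofHom (algebraMap R (Localization.Away rR))) m (by
    rw [Spec.map_comp, Category.assoc, fromSpec_chartRingIso]
    exact hmfac)
  have hn' : algebraMap R (Localization.Away rR) (e.hom b ^ n * e.hom y) = 0 := by
    rw [← map_pow e.hom.hom, ← map_mul e.hom.hom]
    exact hn
  obtain ⟨⟨_, k, rfl⟩, hk'⟩ := (IsLocalization.map_eq_zero_iff (Submonoid.powers rR) _ _).mp hn'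
  obtain ⟨t, ht, hty⟩ := exists_tmul_mul_eq_zero_of_fibreReg P.asIdeal (r ^ k) (hreg.pow k) Γ(S', T)
    (e.hom b ^ n * e.hom y) (by
      rw [← hk']
      refine congrArg (· * _) ?_
      show (1 : Γ(S', T)) ⊗ₜ[Γ(S, S₀)] (r ^ k) = ((1 : Γ(S', T)) ⊗ₜ[Γ(S, S₀)] r) ^ k
      rw [Algebra.TensorProduct.tmul_pow, one_pow])
  rw [← mul_assoc] at hty
  have hmem : ((1 : Γ(S', T)) ⊗ₜ[Γ(S, S₀)] t : R) * e.hom b ^ n ∈ P₁ := hle hty
  exact (hP₁.mem_or_mem hmem).elim ht fun h' => hb (hP₁.mem_of_pow_mem n h')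

end Groth.FlatDescent.Dom
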