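import Groth.Agent.FlatDescent.Dom.Universal

/-!
# An element regular on the fibre at a point is universally regular at the point
-/

universe u

open TensorProduct

namespace Groth.FlatDescent.Dom

/-- `f` is regular at `P` on the fibre through `P`. -/
def FibreReg (A : Type u) [CommRing A] {B : Type u} [CommRing B] [Algebra A B] (P : Ideal B) [P.IsPrime] (f : B) : Prop :=
  ∀ z : (P.comap (algebraMap A B)).ResidueField ⊗[A] B,
    ((1 : (P.comap (algebraMap A B)).ResidueField) ⊗ₜ f) * z = 0 →
      ∃ t : B, t ∉ P ∧ ((1 : (P.comap (algebraMap A B)).ResidueField) ⊗ₜ t) * z = 0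

/-- The Noetherian case, for an arbitrary module over the base. -/
theorem exists_smul_eq_zero_of_fibreReg {A B : Type u} [CommRing A] [CommRing B] [Algebra A B] [IsNoetherianRing B]
    [Module.Flat A B] {P : Ideal B} [hP : P.IsPrime] {f : B} (hf : FibreReg A P f)
    (M : Type u) [AddCommGroup M] [Module A M] (y : B ⊗[A] M) (hy : f • y = 0) : ∃ t : B, t ∉ P ∧ t • y = 0 := by
  classical
  obtain ⟨M₀, hfin, hM₀⟩ := TensorProduct.exists_finite_submodule_right_of_setFinite {y} (Set.finite_singleton y)
  obtain ⟨y₀, hy₀⟩ := hM₀ rfl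
  have hsmul : ∀ {X X' : Type u} [AddCommGroup X] [Module A X] [AddCommGroup X'] [Module A X'] (φ : X →ₗ[A] X') (b : B)
      (v : B ⊗[A] X), φ.lTensor B (b • v) = b • φ.lTensor B v := fun φ b v =>
    (AlgebraTensorModule.lTensor B B φ).map_smul b v
  have hy₀' : f • y₀ = 0 :=
    Module.Flat.lTensor_preserves_injective_linearMap (M := B) M₀.subtype Subtype.val_injective
      (by rw [map_zero, hsmul, hy₀, hy])
  suffices h0 : ∃ t : B, t ∉ P ∧ t • y₀ = 0 by
    obtain ⟨t, ht, htk⟩ := h0
    exact ⟨t, ht, by rw [← hy₀, ← hsmul, htk, map_zero]⟩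
  let q : Ideal A := P.comap (algebraMap A B)
  let K := q.ResidueField
  have key : ∀ n : ℕ, ∃ t : B, t ∉ P ∧ t • y₀ ∈ LinearMap.range ((q ^ n • (⊤ : Submodule A M₀)).subtype.lTensor B) := by
    intro n
    induction n with
    | zero =>
      refine ⟨1, fun h1 => hP.ne_top ((Ideal.eq_top_iff_one P).mpr h1), ?_⟩
      obtain ⟨v, hv⟩ := LinearMap.lTensor_surjective B (g := (q ^ 0 • (⊤ : Submodule A M₀)).subtype)
        (fun x => ⟨⟨x, by simp⟩, rfl⟩) ((1 : B) • y₀)
      exact ⟨v, hv⟩
    | succ n ih =>
      obtain ⟨t, ht, y', hy'⟩ := ih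
      let N : Submodule A M₀ := q ^ n • ⊤
      let P' : Submodule A N := q • ⊤
      have hy'f : f • y' = 0 :=
        Module.Flat.lTensor_preserves_injective_linearMap (M := B) N.subtype Subtype.val_injective
          (by rw [map_zero, hsmul, hy', smul_comm, hy₀', smul_zero])
      let z₁ := P'.mkQ.lTensor B y'
      have hX : ∀ a ∈ q, ∀ x : B ⊗[A] (↥N ⧸ P'), a • x = 0 := fun a ha x => by
        induction x using TensorProduct.induction_on with
        | zero => exact smul_zero _
        | add u v hu hv => rw [smul_add, hu, hv, add_zero]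
        | tmul b v =>
          obtain ⟨v, rfl⟩ := Submodule.Quotient.mk_surjective _ v
          rw [← tmul_smul, ← Submodule.Quotient.mk_smul,
            (Submodule.Quotient.mk_eq_zero _).mpr (Submodule.smul_mem_smul ha Submodule.mem_top), tmul_zero]
      let ι : (↥N ⧸ P') →ₗ[A] K ⊗[A] (↥N ⧸ P') := TensorProduct.mk A K _ 1
      obtain ⟨s, hs, hsk⟩ : ∃ s : B, s ∉ P ∧ s • ι.lTensor B z₁ = 0 := by
        let bs := Module.Free.chooseBasis K (K ⊗[A] (↥N ⧸ P'))
        let E := (TensorProduct.congr (LinearEquiv.refl A B) (bs.repr.restrictScalars A)).trans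
          (TensorProduct.finsuppRight A A B K _)
        have hE : ∀ (v : B ⊗[A] (K ⊗[A] (↥N ⧸ P'))) i,
            E v i = ((bs.coord i).restrictScalars A).lTensor B v := fun v i => by
          induction v using TensorProduct.induction_on with
          | zero => simp
          | add u v hu hv => simp only [map_add, Finsupp.coe_add, Pi.add_apply, hu, hv]
          | tmul b x => simp [E, Module.Basis.coord_apply]
        let w := ι.lTensor B z₁
        have hc : ∀ i, ∃ s : B, s ∉ P ∧ s • ((bs.coord i).restrictScalars A).lTensor B w = 0 := fun i => by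
          let e := Algebra.TensorProduct.comm A B K
          let v := ((bs.coord i).restrictScalars A).lTensor B w
          have he : ∀ (b : B), e (b • v) = ((1 : K) ⊗ₜ[A] b) * e v := fun b => by
            rw [Algebra.smul_def, map_mul]
            refine congrArg (· * e v) ?_
            show e (b ⊗ₜ[A] (1 : K)) = _
            exact Algebra.TensorProduct.comm_tmul _ _ _
          have hv : f • v = 0 := by
            show f • ((bs.coord i).restrictScalars A).lTensor B (ι.lTensor B (P'.mkQ.lTensor B y')) = 0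
            rw [← hsmul, ← hsmul, ← hsmul, hy'f, map_zero, map_zero, map_zero]
          obtain ⟨s, hs, hs'⟩ := hf (e v) (by rw [← he, hv, map_zero])
          exact ⟨s, hs, e.injective (by rw [he, hs', map_zero])⟩
        choose ss hss hss' using hc
        refine ⟨∏ i ∈ (E w).support, ss i, fun hmem => ?_, E.injective (Finsupp.ext fun i => ?_)⟩
        · obtain ⟨i, -, hi⟩ := (Ideal.IsPrime.prod_mem_iff (hp := hP)).mp hmem
          exact hss i hi
        · rw [hE, hsmul, map_zero, Finsupp.coe_zero, Pi.zero_apply]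
          by_cases hi : i ∈ (E w).support
          · rw [← Finset.mul_prod_erase _ _ hi, mul_comm, mul_smul, hss', smul_zero]
          · rw [← hE, Finsupp.notMem_support_iff.mp hi, smul_zero]
      rw [← hsmul] at hsk
      have hk' : (1 : K) ⊗ₜ[A] (s • z₁) = 0 := by
        have h1 := congrArg (TensorProduct.leftComm A B K (↥N ⧸ P')) hsk
        rw [map_zero] at h1
        refine Eq.trans ?_ h1
        generalize s • z₁ = v
        induction v using TensorProduct.induction_on with
        | zero => simp
        | add u v hu hv => simp only [tmul_add, map_add, hu, hv]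
        | tmul b x => simp [ι]
      obtain ⟨a, ha, hax⟩ := exists_smul_eq_zero_of_tmul_residueField q hX _ hk'
      let s' : B := algebraMap A B a * s
      have hs' : s' ∉ P := fun hc => (hP.mem_or_mem hc).elim ha hs
      have h0 : P'.mkQ.lTensor B (s' • y') = 0 := by
        rw [hsmul, mul_smul, algebraMap_smul]
        exact hax
      obtain ⟨v, hv⟩ := mem_range_lTensor_subtype B P' (s' • y') h0
      let c : P' →ₗ[A] ↥(q ^ (n + 1) • (⊤ : Submodule A M₀)) :=
        LinearMap.codRestrict _ (N.subtype ∘ₗ P'.subtype) fun x => by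
          have h1 : ((x : N) : M₀) ∈ P'.map N.subtype := ⟨x, x.2, rfl⟩
          rw [Submodule.map_smul'', Submodule.map_subtype_top] at h1
          rw [pow_succ', Submodule.mul_smul]
          exact h1
      refine ⟨s' * t, fun hc => (hP.mem_or_mem hc).elim hs' ht, c.lTensor B v, ?_⟩
      rw [← LinearMap.comp_apply, ← LinearMap.lTensor_comp,
        show (q ^ (n + 1) • (⊤ : Submodule A M₀)).subtype ∘ₗ c = N.subtype ∘ₗ P'.subtype from rfl,
        LinearMap.lTensor_comp, LinearMap.comp_apply, hv, hsmul, hy', ← mul_smul]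
  -- Krull
  let g := LocalizedModule.mkLinearMap P.primeCompl (B ⊗[A] M₀)
  haveI : Module.Finite (Localization.AtPrime P) (LocalizedModule P.primeCompl (B ⊗[A] M₀)) :=
    Module.Finite.of_isLocalizedModule P.primeCompl g
  let mP := IsLocalRing.maximalIdeal (Localization.AtPrime P)
  have hqm : (q.map (algebraMap A B)).map (algebraMap B (Localization.AtPrime P)) ≤ mP :=
    (Ideal.map_mono Ideal.map_comap_le).trans Localization.AtPrime.map_eq_maximalIdeal.le
  have hmem : g y₀ ∈ ⨅ n, mP ^ n • (⊤ : Submodule (Localization.AtPrime P) (LocalizedModule P.primeCompl (B ⊗[A] M₀))) := by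
    refine Submodule.mem_iInf _ |>.mpr fun n => ?_
    obtain ⟨t, ht, v, hv⟩ := key n
    have hu : IsUnit (algebraMap B (Localization.AtPrime P) t) :=
      IsLocalization.map_units (Localization.AtPrime P) (⟨t, ht⟩ : P.primeCompl)
    rw [← Submodule.smul_mem_iff_of_isUnit _ hu, algebraMap_smul, ← map_smul, ← hv]
    clear hv
    induction v using TensorProduct.induction_on with
    | zero => simp
    | add u v hu hv => rw [map_add, map_add]; exact add_mem hu hv
    | tmul b x =>
      rw [LinearMap.lTensor_tmul]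
      refine Submodule.smul_induction_on (p := fun z => g (b ⊗ₜ[A] z) ∈ mP ^ n • ⊤) x.2 (fun a ha m _ => ?_)
        (fun u v hu hv => by rw [tmul_add, map_add]; exact add_mem hu hv)
      rw [tmul_smul, ← algebraMap_smul B a, map_smul, ← algebraMap_smul (Localization.AtPrime P) (algebraMap A B a)]
      refine Submodule.smul_mem_smul ?_ Submodule.mem_top
      refine Ideal.pow_right_mono hqm n ?_
      rw [← Ideal.map_pow, ← Ideal.map_pow]
      exact Ideal.mem_map_of_mem _ (Ideal.mem_map_of_mem _ ha)
  have h7 := Ideal.iInf_pow_smul_eq_bot_of_isLocalRing (M := LocalizedModule P.primeCompl (B ⊗[A] M₀)) mP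
    (IsLocalRing.maximalIdeal.isMaximal _).ne_top
  rw [h7] at hmem
  obtain ⟨⟨t, ht⟩, hty⟩ := (IsLocalizedModule.eq_zero_iff P.primeCompl g).mp hmem
  exact ⟨t, ht, hty⟩

/-- Fibre regularity passes to powers. -/
theorem FibreReg.pow {A : Type u} [CommRing A] {B : Type u} [CommRing B] [Algebra A B] {P : Ideal B} [hP : P.IsPrime]
    {f : B} (h : FibreReg A P f) (k : ℕ) : FibreReg A P (f ^ k) := by
  induction k with
  | zero =>
    intro z hz
    refine ⟨1, fun h1 => hP.ne_top ((Ideal.eq_top_iff_one P).mpr h1), ?_⟩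
    rwa [pow_zero] at hz
  | succ k ih =>
    intro z hz
    rw [pow_succ, ← one_mul (1 : (P.comap (algebraMap A B)).ResidueField),
      ← Algebra.TensorProduct.tmul_mul_tmul, mul_assoc] at hz
    obtain ⟨t, ht, htz⟩ := ih _ hz
    rw [mul_left_comm] at htz
    obtain ⟨s, hs, hsz⟩ := h _ htz
    refine ⟨s * t, fun hc => (hP.mem_or_mem hc).elim hs ht, ?_⟩
    rw [← one_mul (1 : (P.comap (algebraMap A B)).ResidueField), ← Algebra.TensorProduct.tmul_mul_tmul, mul_assoc]
    exact hsz

/-- An element of `J` which is a non-zero-divisor near a prime of a Noetherian algebra. -/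
theorem exists_regular_element {B F : Type u} [CommRing B] [CommRing F] [Algebra B F] [IsNoetherianRing F]
    (Q : Ideal F) [Q.IsPrime] (J : Ideal B) (hJ : ∀ z : F, (∀ g ∈ J, algebraMap B F g * z = 0) → z = 0) :
    ∃ f ∈ J, ∀ z : F, algebraMap B F f * z = 0 → ∃ s : F, s ∉ Q ∧ s * z = 0 := by
  classical
  let R := Localization.AtPrime Q
  have hfin : (associatedPrimes R R).Finite := associatedPrimes.finite R R
  obtain ⟨G, hG⟩ := (IsNoetherian.noetherian (J.map (algebraMap B F)) : (J.map (algebraMap B F)).FG)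
  obtain ⟨f, hfJ, hf⟩ : ∃ f ∈ J, ∀ p ∈ associatedPrimes R R, algebraMap F R (algebraMap B F f) ∉ p := by
    by_contra hall
    push Not at hall
    have hsub : (J : Set B) ⊆ ⋃ p ∈ (hfin.toFinset : Set (Ideal R)), (p.comap ((algebraMap F R).comp (algebraMap B F)) : Set B) := by
      intro g hg
      obtain ⟨p, hp, hgp⟩ := hall g hg
      exact Set.mem_biUnion (hfin.mem_toFinset.mpr hp) hgp
    obtain ⟨p, hp, hle⟩ := (Ideal.subset_union_prime (f := fun p : Ideal R => p.comap ((algebraMap F R).comp (algebraMap B F)))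
      ⊥ ⊥ (fun p hp _ _ =>
        haveI := (hfin.mem_toFinset.mp hp).isPrime
        Ideal.IsPrime.comap _)).mp hsub
    have hass : p ∈ associatedPrimes R R := hfin.mem_toFinset.mp hp
    obtain ⟨r, hr⟩ := (isAssociatedPrime_iff.mp hass).2
    obtain ⟨z, s, rfl⟩ := IsLocalization.exists_mk'_eq Q.primeCompl r
    have hkill : ∀ g ∈ J.map (algebraMap B F), ∃ t : F, t ∉ Q ∧ t * (g * z) = 0 := by
      intro g hg
      have h1 : algebraMap F R g ∈ p := by
        have h2 : (J.map (algebraMap B F)).map (algebraMap F R) ≤ p := by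
          rw [Ideal.map_map]
          exact Ideal.map_le_iff_le_comap.mpr hle
        exact h2 (Ideal.mem_map_of_mem _ hg)
      rw [hr, Submodule.mem_colon_singleton, Submodule.mem_bot, smul_eq_mul, IsLocalization.mul_mk'_eq_mk'_of_mul,
        IsLocalization.mk'_eq_zero_iff] at h1
      obtain ⟨⟨t, ht⟩, h1⟩ := h1
      exact ⟨t, ht, h1⟩
    choose! t ht htz using hkill
    let T := ∏ g ∈ G, t g
    have hmemG : ∀ g ∈ G, g ∈ J.map (algebraMap B F) := fun g hg => hG ▸ Submodule.subset_span hg
    have hT : T ∉ Q := fun hmem => by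
      obtain ⟨g, hg, hgm⟩ := (Ideal.IsPrime.prod_mem_iff (hp := ‹Q.IsPrime›)).mp hmem
      exact ht g (hmemG g hg) hgm
    have hz0 : T * z = 0 := hJ _ fun g hg => by
      have h3 : ∀ x ∈ J.map (algebraMap B F), x * (T * z) = 0 := by
        intro x hx
        rw [← hG] at hx
        induction hx using Submodule.span_induction with
        | mem x hx =>
          rw [show T = t x * ∏ g ∈ G.erase x, t g from (Finset.mul_prod_erase _ _ hx).symm]
          have := htz x (hmemG x hx)
          linear_combination (∏ g ∈ G.erase x, t g) * this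
        | zero => rw [zero_mul]
        | add a b _ _ ha hb => rw [add_mul, ha, hb, add_zero]
        | smul c a _ ha => rw [smul_eq_mul, mul_assoc, ha, mul_zero]
      exact h3 _ (Ideal.mem_map_of_mem _ hg)
    have hmk : IsLocalization.mk' R z s = 0 := (IsLocalization.mk'_eq_zero_iff z s).mpr ⟨⟨T, hT⟩, hz0⟩
    rw [hmk] at hr
    refine hass.isPrime.ne_top ?_
    rw [hr, eq_top_iff]
    intro x _
    rw [Submodule.mem_colon_singleton, Submodule.mem_bot, smul_zero]
  refine ⟨f, hfJ, fun z hz => ?_⟩
  by_contra hall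
  push Not at hall
  have hz0 : algebraMap F R z ≠ 0 := fun h0 => by
    obtain ⟨⟨s, hs⟩, hsz⟩ := (IsLocalization.map_eq_zero_iff Q.primeCompl R z).mp h0
    exact hall s hs hsz
  have hzd : algebraMap F R (algebraMap B F f) ∈ {r : R | ∃ x : R, x ≠ 0 ∧ r • x = 0} :=
    ⟨_, hz0, by rw [smul_eq_mul, ← map_mul, hz, map_zero]⟩
  rw [← biUnion_associatedPrimes_eq_zero_divisors] at hzd
  obtain ⟨p, hp, hmem⟩ := Set.mem_iUnion₂.mp hzd
  exact hf p hp hmem

end Groth.FlatDescent.Dom
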