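import Mathlib
import Groth.Agent.GenFree.Free
import Groth.Agent.GenFree.Package

/-!
# A flat module of finite type preserves separating families
-/

universe u

open TensorProduct

namespace Groth.FlatDescent.Dom

variable {A₀ : Type u} [CommRing A₀]

/-- Tensoring with a flat module commutes with taking the elements killed by an ideal. -/
theorem mem_range_lTensor_torsion {N : Type u} [AddCommGroup N] [Module A₀ N] [Module.Flat A₀ N]
    {X : Type u} [AddCommGroup X] [Module A₀ X] (p : Ideal A₀) (hp : p.FG) (y : N ⊗[A₀] X)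
    (hy : ∀ a ∈ p, a • y = 0) :
    y ∈ LinearMap.range ((Submodule.torsionBySet A₀ X (p : Set A₀)).subtype.lTensor N) := by
  classical
  obtain ⟨s, rfl⟩ := hp
  let g : X →ₗ[A₀] (s → X) := LinearMap.pi fun a => (a : A₀) • LinearMap.id
  have hex : Function.Exact (Submodule.torsionBySet A₀ X (Submodule.span A₀ (s : Set A₀) : Ideal A₀)).subtype g := by
    intro x
    constructor
    · intro hx
      refine ⟨⟨x, ?_⟩, rfl⟩
      rw [Submodule.mem_torsionBySet_iff]
      rintro ⟨a, ha⟩
      show a • x = 0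
      induction ha using Submodule.span_induction with
      | mem a ha => exact congrFun hx ⟨a, ha⟩
      | zero => exact zero_smul _ _
      | add a b _ _ ha hb => rw [add_smul, ha, hb, add_zero]
      | smul c a _ ha => rw [smul_assoc, ha, smul_zero]
    · rintro ⟨⟨x, hx⟩, rfl⟩
      funext a
      exact (Submodule.mem_torsionBySet_iff _ _).mp hx ⟨a.1, Submodule.subset_span a.2⟩
  refine ((Module.Flat.lTensor_exact N hex) y).mp ?_
  refine (TensorProduct.piRight A₀ A₀ N (fun _ : s => X)).injective (funext fun a => ?_)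
  rw [map_zero, Pi.zero_apply]
  have h : ∀ z : N ⊗[A₀] X, TensorProduct.piRight A₀ A₀ N (fun _ : s => X) (g.lTensor N z) a = (a : A₀) • z := fun z => by
    induction z using TensorProduct.induction_on with
    | zero => simp
    | add u v hu hv => simp only [map_add, Pi.add_apply, hu, hv, smul_add]
    | tmul n x => simp [g]
  rw [h]
  exact hy _ (Submodule.subset_span a.2)

/-- Generic coordinates of `N ⊗ X` for `X` killed by the prime `p`. -/
structure Coordinates {N : Type u} [AddCommGroup N] [Module A₀ N] (p : Ideal A₀) (b : A₀) where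
  index : Type u
  elem : index → N
  span : ∀ {X : Type u} [AddCommGroup X] [Module A₀ X], (∀ a ∈ p, ∀ x : X, a • x = 0) → ∀ y : N ⊗[A₀] X,
    ∃ (k : ℕ) (x : index →₀ X), b ^ k • y = x.sum fun i v => elem i ⊗ₜ v
  separated : ∀ {X : Type u} [AddCommGroup X] [Module A₀ X], (∀ a ∈ p, ∀ x : X, a • x = 0) → ∀ x : index →₀ X,
    (x.sum fun i v => elem i ⊗ₜ[A₀] v) = 0 → ∀ i, ∃ k : ℕ, b ^ k • x i = 0

theorem exists_coordinates [IsNoetherianRing A₀] {B₀ : Type u} [CommRing B₀] [Algebra A₀ B₀] [Algebra.FiniteType A₀ B₀]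
    {N : Type u} [AddCommGroup N] [Module A₀ N] [Module B₀ N] [IsScalarTower A₀ B₀ N] [Module.Finite B₀ N]
    (p : Ideal A₀) [p.IsPrime] :
    ∃ b : A₀, b ∉ p ∧ Nonempty (Coordinates (N := N) p b) := by
  classical
  let D := A₀ ⧸ p
  let I : Ideal B₀ := p.map (algebraMap A₀ B₀)
  let Bb := B₀ ⧸ I
  let Nb := N ⧸ I • (⊤ : Submodule B₀ N)
  letI : Module D Nb := Module.compHom Nb (algebraMap D Bb)
  haveI : IsScalarTower D Bb Nb := IsScalarTower.of_algebraMap_smul fun _ _ => rfl
  haveI : IsScalarTower A₀ D Nb := IsScalarTower.of_algebraMap_smul fun a x => by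
    obtain ⟨x, rfl⟩ := Submodule.Quotient.mk_surjective _ x
    show Submodule.Quotient.mk (algebraMap A₀ B₀ a • x) = Submodule.Quotient.mk (a • x)
    rw [algebraMap_smul]
  haveI : Algebra.FiniteType D Bb := Algebra.FiniteType.of_restrictScalars_finiteType A₀ D Bb
  haveI : Module.Finite Bb Nb := Module.Finite.of_restrictScalars_finite B₀ Bb Nb
  obtain ⟨a, ha, hfree⟩ := Groth.GenFree.exists_freeAt D (B := Bb) Nb
  obtain ⟨b, rfl⟩ := Ideal.Quotient.mk_surjective a
  obtain ⟨ι, eb, hli, hsp⟩ := hfree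
  choose e he using fun i => Submodule.Quotient.mk_surjective _ (eb i)
  refine ⟨b, fun hb => ha (Ideal.Quotient.eq_zero_iff_mem.mpr hb), ⟨⟨ι, e, @fun X _ _ hX y => ?_, @fun X _ _ hX x hx i => ?_⟩⟩⟩
  · -- spanning
    induction y using TensorProduct.induction_on with
    | zero => exact ⟨0, 0, by simp⟩
    | add u v hu hv =>
      obtain ⟨k, x, hk⟩ := hu
      obtain ⟨l, x', hl⟩ := hv
      refine ⟨k + l, b ^ l • x + b ^ k • x', ?_⟩
      rw [Finsupp.sum_add_index' (fun i => tmul_zero _ (e i)) (fun i u v => tmul_add _ u v), smul_add]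
      have h1 : ∀ (c : A₀) (z : ι →₀ X), (c • z).sum (fun i v => e i ⊗ₜ[A₀] v) = c • z.sum fun i v => e i ⊗ₜ v :=
        fun c z => by
          rw [Finsupp.sum_smul_index' (fun i => tmul_zero _ (e i)), Finsupp.smul_sum]
          simp only [tmul_smul]
      rw [h1, h1, ← hk, ← hl, smul_smul, smul_smul, ← pow_add, ← pow_add, add_comm l k]
    | tmul n v =>
      obtain ⟨k, hk⟩ := hsp (Submodule.Quotient.mk n)
      obtain ⟨c, hc⟩ := (Finsupp.mem_span_range_iff_exists_finsupp).mp hk
      choose c' hc' using fun i => Ideal.Quotient.mk_surjective (c i)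
      let x : ι →₀ X := Finsupp.onFinset c.support (fun i => if i ∈ c.support then c' i • v else 0)
        fun i hi => by by_contra h; exact hi (if_neg h)
      refine ⟨k, x, ?_⟩
      have h1 : (x.sum fun i w => e i ⊗ₜ[A₀] w) = (∑ i ∈ c.support, c' i • e i) ⊗ₜ[A₀] v := by
        rw [Finsupp.onFinset_sum _ (fun i => tmul_zero _ (e i)), TensorProduct.sum_tmul]
        exact Finset.sum_congr rfl fun i hi => by rw [if_pos hi, TensorProduct.smul_tmul]
      rw [h1, TensorProduct.smul_tmul']
      rw [← sub_eq_zero, ← TensorProduct.sub_tmul]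
      have hmem : b ^ k • n - ∑ i ∈ c.support, c' i • e i ∈ p • (⊤ : Submodule A₀ N) := by
        have h2 : b ^ k • n - ∑ i ∈ c.support, c' i • e i ∈ (I • (⊤ : Submodule B₀ N)).restrictScalars A₀ := by
          rw [Submodule.restrictScalars_mem, ← Submodule.Quotient.eq]
          rw [← Submodule.mkQ_apply, ← Submodule.mkQ_apply, map_sum, LinearMap.map_smul_of_tower]
          simp only [LinearMap.map_smul_of_tower, Submodule.mkQ_apply, he]
          rw [← algebraMap_smul D (b ^ k) (Submodule.Quotient.mk n : Nb), map_pow]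
          refine hc.symm.trans (Finset.sum_congr rfl fun i _ => ?_)
          show c i • eb i = c' i • eb i
          rw [← hc' i, ← Ideal.Quotient.algebraMap_eq, algebraMap_smul]
        rwa [Ideal.smul_restrictScalars, Submodule.restrictScalars_top] at h2
      refine Submodule.smul_induction_on (p := fun z => z ⊗ₜ[A₀] v = 0) hmem (fun a ha m _ => ?_)
        (fun s t hs ht => by rw [TensorProduct.add_tmul, hs, ht, add_zero])
      rw [TensorProduct.smul_tmul, hX a ha, tmul_zero]
  · -- separation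
    have hT : Module.IsTorsionBySet A₀ X (p : Set A₀) := fun v a => hX a.1 a.2 v
    letI : Module D X := hT.module
    haveI : IsScalarTower A₀ D X := hT.isScalarTower
    let Db := Localization.Away (Ideal.Quotient.mk p b)
    let fN := LocalizedModule.mkLinearMap (Submonoid.powers (Ideal.Quotient.mk p b)) Nb
    obtain ⟨bas, hbas⟩ := Groth.GenFree.exists_basis_of_freeAt hli hsp Db fN
    let coordN : N →ₗ[A₀] Db := ((bas.coord i).restrictScalars A₀) ∘ₗ (fN.restrictScalars A₀) ∘ₗ
      ((I • (⊤ : Submodule B₀ N)).mkQ.restrictScalars A₀)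
    have hcoord : ∀ j, coordN (e j) = if j = i then 1 else 0 := fun j => by
      show bas.coord i (fN (Submodule.Quotient.mk (e j))) = _
      rw [he, ← hbas, Module.Basis.coord_apply, Module.Basis.repr_self, Finsupp.single_apply]
    let Ψ : N ⊗[A₀] X →ₗ[A₀] Db ⊗[D] X :=
      TensorProduct.lift ((((TensorProduct.mk D Db X).restrictScalars₁₂ A₀ A₀)).comp coordN)
    have h2 := congrArg Ψ hx
    rw [map_zero, map_finsuppSum] at h2
    have h3 : (1 : Db) ⊗ₜ[D] x i = 0 := by
      refine Eq.trans ?_ h2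
      rw [Finsupp.sum, Finset.sum_eq_single i]
      · simp [Ψ, hcoord]
      · intro j _ hj
        simp [Ψ, hcoord, hj]
      · intro hi
        simp [Finsupp.notMem_support_iff.mp hi]
    haveI := Groth.GenFree.isLocalizedModule_mk (Submonoid.powers (Ideal.Quotient.mk p b)) Db X
    obtain ⟨⟨_, k, rfl⟩, hk⟩ := (IsLocalizedModule.eq_zero_iff (Submonoid.powers (Ideal.Quotient.mk p b))
      (TensorProduct.mk D Db X 1)).mp h3
    refine ⟨k, ?_⟩
    rw [← algebraMap_smul D (b ^ k) (x i), map_pow]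
    exact hk

/-- **A flat module of finite type over a finite type algebra preserves separating families.** -/
theorem eq_zero_of_separating [IsNoetherianRing A₀] {B₀ : Type u} [CommRing B₀] [Algebra A₀ B₀]
    [Algebra.FiniteType A₀ B₀] {N : Type u} [AddCommGroup N] [Module A₀ N] [Module B₀ N] [IsScalarTower A₀ B₀ N]
    [Module.Finite B₀ N] [Module.Flat A₀ N]
    {X : Type u} [AddCommGroup X] [Module A₀ X] {κ : Type*} {Y : κ → Type u} [∀ i, AddCommGroup (Y i)]
    [∀ i, Module A₀ (Y i)] (φ : ∀ i, X →ₗ[A₀] Y i)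
    (hφ : ∀ (b : A₀) (x : X), (∀ i, ∃ k : ℕ, b ^ k • φ i x = 0) → ∃ k : ℕ, b ^ k • x = 0)
    (y : N ⊗[A₀] X) (hy : ∀ i, (φ i).lTensor N y = 0) : y = 0 := by
  classical
  haveI : IsNoetherianRing B₀ := Algebra.FiniteType.isNoetherianRing A₀ B₀
  obtain ⟨M, hMfin, hM⟩ := TensorProduct.exists_finite_submodule_right_of_setFinite {y} (Set.finite_singleton y)
  obtain ⟨y₁, hy₁⟩ := hM rfl
  suffices h1 : y₁ = 0 by rw [← hy₁, h1, map_zero]
  by_contra hne
  -- an associated prime
  let S : Set (Ideal B₀) := {J | ∃ c : B₀, c • y₁ ≠ 0 ∧ J = LinearMap.ker (LinearMap.toSpanSingleton B₀ _ (c • y₁))}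
  obtain ⟨P, ⟨c, hc, hP⟩, hmax⟩ := set_has_maximal_iff_noetherian.mpr (inferInstance : IsNoetherian B₀ B₀) S
    ⟨_, 1, by rwa [one_smul], rfl⟩
  have hmem : ∀ a, a ∈ P ↔ a • (c • y₁) = 0 := fun a => by rw [hP, LinearMap.mem_ker]; rfl
  have hPprime : Ideal.IsPrime (P : Ideal B₀) := by
    refine ⟨fun htop => hc ?_, fun {a a'} haa => ?_⟩
    · have h1 := (hmem 1).mp (htop ▸ Submodule.mem_top)
      rwa [one_smul] at h1
    by_contra hor
    rw [not_or] at hor
    obtain ⟨ha, ha'⟩ := hor
    have hne' : (a' * c) • y₁ ≠ 0 := fun h => ha' ((hmem a').mpr (by rw [smul_smul]; exact h))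
    refine hmax _ ⟨a' * c, hne', rfl⟩ (SetLike.lt_iff_le_and_exists.mpr ⟨fun x hx => ?_, a, ?_, ha⟩)
    · have h1 : x • c • y₁ = 0 := (hmem x).mp hx
      show x • (a' * c) • y₁ = 0
      rw [mul_smul, smul_comm x a', h1, smul_zero]
    · show a • (a' * c) • y₁ = 0
      rw [mul_smul, smul_smul a a']
      exact (hmem _).mp haa
  let y₂ : N ⊗[A₀] M := c • y₁
  haveI := hPprime
  let p : Ideal A₀ := Ideal.comap (algebraMap A₀ B₀) (P : Ideal B₀)
  obtain ⟨b, hbp, ⟨co⟩⟩ := exists_coordinates (B₀ := B₀) (N := N) p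
  have hkill : ∀ a ∈ p, a • y₂ = 0 := fun a ha => by
    rw [← algebraMap_smul B₀]; exact (hmem _).mp ha
  obtain ⟨z, hz⟩ := mem_range_lTensor_torsion p (IsNoetherian.noetherian p) y₂ hkill
  let Mp := Submodule.torsionBySet A₀ M (p : Set A₀)
  have hMp : ∀ a ∈ p, ∀ x : Mp, a • x = 0 := fun a ha x =>
    Subtype.ext ((Submodule.mem_torsionBySet_iff _ _).mp x.2 ⟨a, ha⟩)
  obtain ⟨n, x, hx⟩ := co.span hMp z
  have hpow : ∀ k : ℕ, b ^ k • y₂ ≠ 0 := fun k h => hbp (hPprime.mem_of_pow_mem k (by
    rw [← map_pow, hmem, algebraMap_smul]; exact h))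
  -- a coordinate which is not killed by a power of `b`
  obtain ⟨i, hi⟩ : ∃ i, ∀ k : ℕ, b ^ k • ((x i : M) : X) ≠ 0 := by
    by_contra hall
    push Not at hall
    choose k hk using hall
    refine hpow (x.support.sup k + n) ?_
    have h0' : b ^ (x.support.sup k) • (x.sum fun i v => co.elem i ⊗ₜ[A₀] v) = 0 := by
      rw [Finsupp.sum, Finset.smul_sum]
      refine Finset.sum_eq_zero fun i hi => ?_
      have h1 : b ^ x.support.sup k • x i = 0 := by
        apply Subtype.ext
        apply Subtype.ext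
        show b ^ x.support.sup k • ((x i : M) : X) = 0
        rw [← Nat.sub_add_cancel (Finset.le_sup hi (f := k)), pow_add, mul_smul, hk, smul_zero]
      rw [← tmul_smul, h1, tmul_zero]
    rw [← hz, ← map_smul, pow_add, mul_smul, hx, h0', map_zero]
  -- some member of the family sees it
  obtain ⟨j, hj⟩ : ∃ j, ∀ k : ℕ, b ^ k • φ j ((x i : M) : X) ≠ 0 := by
    by_contra hall
    push Not at hall
    obtain ⟨k, hk⟩ := hφ b _ hall
    exact hi k hk
  let Yp := Submodule.torsionBySet A₀ (Y j) (p : Set A₀)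
  let f : Mp →ₗ[A₀] Yp := ((φ j).comp (M.subtype.comp Mp.subtype)).codRestrict Yp fun v =>
    (Submodule.mem_torsionBySet_iff _ _).mpr fun a => by
      have h1 := congrArg (fun w : Mp => φ j ((w : M) : X)) (hMp a.1 a.2 v)
      simpa using h1
  have h0 : f.lTensor N (b ^ n • z) = 0 := by
    refine Module.Flat.lTensor_preserves_injective_linearMap (M := N) Yp.subtype Subtype.val_injective ?_
    rw [map_zero, ← LinearMap.comp_apply, ← LinearMap.lTensor_comp,
      show Yp.subtype ∘ₗ f = ((φ j).comp M.subtype).comp Mp.subtype from rfl, LinearMap.lTensor_comp,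
      LinearMap.comp_apply, map_smul, hz, map_smul]
    have h2 : ((φ j).comp M.subtype).lTensor N y₂ = 0 := by
      have h3 : ((AlgebraTensorModule.lTensor B₀ N ((φ j).comp M.subtype)) : N ⊗[A₀] M →ₗ[B₀] N ⊗[A₀] Y j) y₂ = 0 := by
        rw [map_smul]
        have h4 : ((φ j).comp M.subtype).lTensor N y₁ = 0 := by
          rw [LinearMap.lTensor_comp, LinearMap.comp_apply, hy₁, hy]
        show c • ((φ j).comp M.subtype).lTensor N y₁ = 0
        rw [h4, smul_zero]
      exact h3
    rw [h2, smul_zero]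
  rw [hx, map_finsuppSum] at h0
  have hYp : ∀ a ∈ p, ∀ v : Yp, a • v = 0 := fun a ha v =>
    Subtype.ext ((Submodule.mem_torsionBySet_iff _ _).mp v.2 ⟨a, ha⟩)
  obtain ⟨k, hk⟩ := co.separated hYp (x.mapRange f (map_zero f)) (by
    rw [Finsupp.sum_mapRange_index (fun i => tmul_zero _ (co.elem i))]
    exact h0) i
  rw [Finsupp.mapRange_apply] at hk
  exact hj k (congrArg Subtype.val hk)

end Groth.FlatDescent.Dom
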