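import Groth.Agent.S9456
import Groth.Agent.FlatDescent.Dom.Separating

/-!
# Dominant families of ring maps under flat base change
-/

universe u

open TensorProduct

namespace Groth.FlatDescent.Dom

/-- The family `A → C i` is separating on every basic open of `Spec A`. -/
def IsDom (A : Type u) [CommRing A] {κ : Type*} (C : κ → Type u) [∀ i, CommRing (C i)] [∀ i, Algebra A (C i)] : Prop :=
  ∀ b a : A, (∀ i, ∃ k : ℕ, algebraMap A (C i) (b ^ k * a) = 0) → ∃ k : ℕ, b ^ k * a = 0

variable {A : Type u} [CommRing A] {κ : Type*} {C : κ → Type u} [∀ i, CommRing (C i)] [∀ i, Algebra A (C i)]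

theorem eq_zero_of_isDom_flat (hC : IsDom A C) (S : Type u) [CommRing S] [Algebra A S] [Algebra.FinitePresentation A S]
    [Module.Flat A S] (s : S) (hs : ∀ i, (1 : C i) ⊗ₜ[A] s = 0) : s = 0 := by
  obtain ⟨R₀, i₁, i₂, S₀, i₃, i₄, i₅, i₆, i₇, i₈, M₀, i₉, i₁₀, i₁₁, i₁₂, i₁₃, i₁₄, f, hR₀, hS₀, hM₀, hflat, hpush, hbc⟩ :=
    Groth.Agent.S9456.result A S S
  haveI : IsNoetherianRing R₀ := Algebra.FiniteType.isNoetherianRing ℤ R₀
  let c := Algebra.IsPushout.cancelBaseChange R₀ A S₀ S M₀
  let E : A ⊗[R₀] M₀ ≃ₗ[A] S := c.symm.trans (hbc.equiv.restrictScalars A)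
  have hE : ∀ (a : A) (m : M₀), E (a ⊗ₜ m) = a • f m := fun a m => by
    simp [E, c, Algebra.IsPushout.cancelBaseChange_symm_tmul, IsBaseChange.equiv_tmul, Algebra.smul_def]
  let z : M₀ ⊗[R₀] A := TensorProduct.comm R₀ A M₀ (E.symm s)
  suffices hz : z = 0 by
    have h1 : E.symm s = 0 := (TensorProduct.comm R₀ A M₀).injective (hz.trans (map_zero _).symm)
    exact E.symm.injective (h1.trans (map_zero _).symm)
  letI : ∀ i, Algebra R₀ (C i) := fun i => ((algebraMap A (C i)).comp (algebraMap R₀ A)).toAlgebra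
  haveI : ∀ i, IsScalarTower R₀ A (C i) := fun i => IsScalarTower.of_algebraMap_eq fun _ => rfl
  refine eq_zero_of_separating (B₀ := S₀) (fun i => (IsScalarTower.toAlgHom R₀ A (C i)).toLinearMap)
    (fun b a hba => ?_) z fun i => ?_
  · obtain ⟨k, hk⟩ := hC (algebraMap R₀ A b) a fun i => by
      obtain ⟨k, hk⟩ := hba i
      refine ⟨k, ?_⟩
      rw [← map_pow, ← Algebra.smul_def]
      exact ((IsScalarTower.toAlgHom R₀ A (C i)).toLinearMap.map_smul (b ^ k) a).trans hk
    exact ⟨k, by rw [Algebra.smul_def, map_pow]; exact hk⟩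
  · let Γ : M₀ ⊗[R₀] C i →ₗ[R₀] C i ⊗[A] S :=
      (((AlgebraTensorModule.cancelBaseChange R₀ A A (C i) M₀).symm.trans
        (TensorProduct.congr (LinearEquiv.refl A (C i)) E)).restrictScalars R₀).toLinearMap.comp
        (TensorProduct.comm R₀ M₀ (C i)).toLinearMap
    have hΓ : Function.Injective Γ := by
      simp only [Γ, LinearMap.coe_comp, LinearEquiv.coe_coe]
      exact (LinearEquiv.injective _).comp (LinearEquiv.injective _)
    refine hΓ ?_
    rw [map_zero, ← hs i]
    have key : ∀ v : A ⊗[R₀] M₀, Γ ((IsScalarTower.toAlgHom R₀ A (C i)).toLinearMap.lTensor M₀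
        (TensorProduct.comm R₀ A M₀ v)) = (1 : C i) ⊗ₜ[A] E v := fun v => by
      induction v using TensorProduct.induction_on with
      | zero => simp
      | add p q hp hq => simp only [map_add, hp, hq, tmul_add]
      | tmul a m =>
        simp only [TensorProduct.comm_tmul, LinearMap.lTensor_tmul, Γ, LinearMap.comp_apply, LinearEquiv.coe_coe,
          LinearEquiv.restrictScalars_apply, LinearEquiv.trans_apply, AlgebraTensorModule.cancelBaseChange_symm_tmul,
          TensorProduct.congr_tmul, LinearEquiv.refl_apply, hE, one_smul]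
        rw [← TensorProduct.smul_tmul, ← Algebra.algebraMap_eq_smul_one]
        rfl
    rw [key, LinearEquiv.apply_symm_apply]

theorem isDom_flat_fp (hC : IsDom A C) (B : Type u) [CommRing B] [Algebra A B] [Algebra.FinitePresentation A B]
    [Module.Flat A B] (h y : B) (hy : ∀ i, ∃ k : ℕ, (1 : C i) ⊗ₜ[A] (h ^ k * y) = 0) : ∃ k : ℕ, h ^ k * y = 0 := by
  let S := Localization.Away h
  haveI : Algebra.FinitePresentation B S := IsLocalization.Away.finitePresentation h
  haveI : Algebra.FinitePresentation A S := Algebra.FinitePresentation.trans A B S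
  haveI : Module.Flat B S := IsLocalization.flat S (Submonoid.powers h)
  haveI : Module.Flat A S := Module.Flat.trans A B S
  have h0 : algebraMap B S y = 0 := by
    refine eq_zero_of_isDom_flat hC S _ fun i => ?_
    obtain ⟨k, hk⟩ := hy i
    have h1 := congrArg (Algebra.TensorProduct.map (AlgHom.id A (C i)) (IsScalarTower.toAlgHom A B S)) hk
    rw [map_zero, Algebra.TensorProduct.map_tmul, AlgHom.coe_id, id_eq, IsScalarTower.coe_toAlgHom', map_mul] at h1
    have hu : IsUnit ((1 : C i) ⊗ₜ[A] algebraMap B S (h ^ k)) :=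
      ((IsLocalization.map_units S (⟨h ^ k, k, rfl⟩ : Submonoid.powers h))).map
        (Algebra.TensorProduct.includeRight (R := A) (A := C i) (B := S))
    rw [← one_mul (1 : C i), ← Algebra.TensorProduct.tmul_mul_tmul] at h1
    exact hu.mul_right_eq_zero.mp h1
  obtain ⟨⟨_, k, rfl⟩, hk⟩ := (IsLocalization.map_eq_zero_iff (Submonoid.powers h) S y).mp h0
  exact ⟨k, hk⟩

/-- Over a field dominant families stay dominant after any base change. -/
theorem isDom_field {k : Type u} [Field k] [Algebra k A] [∀ i, Algebra k (C i)] [∀ i, IsScalarTower k A (C i)]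
    (hC : IsDom A C) (R : Type u) [CommRing R] [Algebra k R] (h y : A ⊗[k] R)
    (hy : ∀ i, ∃ n : ℕ, Algebra.TensorProduct.map (IsScalarTower.toAlgHom k A (C i)) (AlgHom.id k R) (h ^ n * y) = 0) :
    ∃ n : ℕ, h ^ n * y = 0 := by
  classical
  obtain ⟨R', hR', hsub⟩ := TensorProduct.exists_finite_submodule_right_of_setFinite ({h, y} : Set (A ⊗[k] R))
    (Set.toFinite _)
  obtain ⟨s, hs⟩ := (Module.Finite.iff_fg.mp hR')
  let R₀ := Algebra.adjoin k (s : Set R)
  haveI : Algebra.FiniteType k R₀ := ⟨R₀.fg_top.mpr (Subalgebra.fg_adjoin_finset s)⟩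
  haveI : Algebra.FinitePresentation k R₀ := Algebra.FinitePresentation.of_finiteType.mp inferInstance
  have hle : R' ≤ Subalgebra.toSubmodule R₀ := hs ▸ Submodule.span_le.mpr Algebra.subset_adjoin
  let j : A ⊗[k] R₀ →ₐ[A] A ⊗[k] R := Algebra.TensorProduct.map (AlgHom.id A A) R₀.val
  have hj : Function.Injective j :=
    Module.Flat.lTensor_preserves_injective_linearMap (M := A) R₀.val.toLinearMap Subtype.val_injective
  have hlift : ∀ w ∈ ({h, y} : Set (A ⊗[k] R)), ∃ v, j v = w := fun w hw => by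
    obtain ⟨v, rfl⟩ := hsub hw
    refine ⟨(Submodule.inclusion hle).lTensor A v, ?_⟩
    show R₀.val.toLinearMap.lTensor A ((Submodule.inclusion hle).lTensor A v) = _
    rw [← LinearMap.comp_apply, ← LinearMap.lTensor_comp]
    rfl
  obtain ⟨h₀, rfl⟩ := hlift h (Set.mem_insert _ _)
  obtain ⟨y₀, rfl⟩ := hlift y (Set.mem_insert_of_mem _ rfl)
  obtain ⟨n, hn⟩ := isDom_flat_fp hC (A ⊗[k] R₀) h₀ y₀ fun i => by
    obtain ⟨n, hn⟩ := hy i
    refine ⟨n, ?_⟩
    let e := Algebra.TensorProduct.cancelBaseChange k A (C i) (C i) R₀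
    let J : C i ⊗[k] R₀ →ₐ[k] C i ⊗[k] R := Algebra.TensorProduct.map (AlgHom.id k (C i)) R₀.val
    have hJ : Function.Injective J :=
      Module.Flat.lTensor_preserves_injective_linearMap (M := C i) R₀.val.toLinearMap Subtype.val_injective
    refine e.injective (hJ ?_)
    rw [map_zero, map_zero, ← hn, ← map_pow, ← map_mul]
    generalize h₀ ^ n * y₀ = v
    induction v using TensorProduct.induction_on with
    | zero => simp
    | add p q hp hq => simp only [tmul_add, map_add, hp, hq]
    | tmul a r =>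
      simp [e, J, j, Algebra.smul_def]
  exact ⟨n, by rw [← map_pow, ← map_mul, hn, map_zero]⟩

end Groth.FlatDescent.Dom
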