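import Groth.Agent.FlatDescent.Dom.Rings

/-!
# Schematically dominant families on affine opens
-/

universe u

open AlgebraicGeometry CategoryTheory CategoryTheory.Limits

namespace Groth.FlatDescent.Dom

/-- A section of the structure sheaf over an open killed by every member is zero. -/
def SchDom {X : Scheme.{u}} {ι : Type u} {Z : ι → Scheme.{u}} (f : ∀ i, Z i ⟶ X) : Prop :=
  ∀ (V : X.Opens) (t : Γ(X, V)), (∀ i, (f i).app V t = 0) → t = 0

/-- A schematically dominant family is separating on the basic opens of an affine open. -/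
theorem pow_mul_eq_zero_of_schDom {X : Scheme.{u}} {ι : Type u} {Z : ι → Scheme.{u}} {f : ∀ i, Z i ⟶ X} (hf : SchDom f)
    {U : X.Opens} (hU : IsAffineOpen U) (b a : Γ(X, U))
    (h : ∀ (i : ι) (W : (Z i).Opens) (_ : IsAffineOpen W) (e : W ≤ f i ⁻¹ᵁ U), ∃ k : ℕ, (f i).appLE U W e (b ^ k * a) = 0) :
    ∃ k : ℕ, b ^ k * a = 0 := by
  haveI := hU.isLocalization_basicOpen b
  have h0 : algebraMap Γ(X, U) Γ(X, X.basicOpen b) a = 0 := by
    refine hf _ _ fun i => TopCat.Presheaf.section_ext (Z i).sheaf _ _ _ fun z hz => ?_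
    obtain ⟨_, ⟨W, hW, rfl⟩, hzW, hWle⟩ := (Z i).isBasis_affineOpens.exists_subset_of_mem_open
      (show z ∈ (f i ⁻¹ᵁ U : (Z i).Opens) from X.basicOpen_le b hz) (f i ⁻¹ᵁ U).isOpen
    obtain ⟨k, hk⟩ := h i W hW hWle
    let W' := (Z i).basicOpen ((f i).appLE U W hWle b)
    have hW' : W' ≤ f i ⁻¹ᵁ X.basicOpen b := by
      rw [Scheme.preimage_basicOpen]
      exact ((Z i).basicOpen_res ((f i).app U b) (homOfLE hWle).op).trans_le inf_le_right
    have hzW' : z ∈ W' := by
      have h2 : W' = W ⊓ f i ⁻¹ᵁ X.basicOpen b := by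
        rw [Scheme.preimage_basicOpen]
        exact (Z i).basicOpen_res ((f i).app U b) (homOfLE hWle).op
      rw [h2]
      exact ⟨hzW, hz⟩
    haveI := hW.isLocalization_basicOpen ((f i).appLE U W hWle b)
    have h3 : algebraMap Γ(Z i, W) Γ(Z i, W') ((f i).appLE U W hWle a) = 0 := by
      refine (IsLocalization.map_eq_zero_iff (Submonoid.powers ((f i).appLE U W hWle b)) _ _).mpr
        ⟨⟨_, k, rfl⟩, ?_⟩
      show ((f i).appLE U W hWle b) ^ k * (f i).appLE U W hWle a = 0
      rw [← map_pow, ← map_mul, hk]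
    refine Eq.trans ?_ (map_zero _).symm
    have h4 : (f i).appLE (X.basicOpen b) W' hW' (algebraMap Γ(X, U) Γ(X, X.basicOpen b) a) = 0 := by
      refine Eq.trans ?_ h3
      show ((X.presheaf.map (homOfLE (X.basicOpen_le b)).op ≫ (f i).appLE (X.basicOpen b) W' hW') a) =
        ((f i).appLE U W hWle ≫ (Z i).presheaf.map (homOfLE ((Z i).basicOpen_le _)).op) a
      rw [Scheme.Hom.map_appLE, Scheme.Hom.appLE_map]
    refine (TopCat.Presheaf.germ_res_apply (Z i).presheaf (homOfLE hW') z hzW' _).symm.trans ?_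
    exact (congrArg ((Z i).presheaf.germ W' z hzW') h4).trans (map_zero _)
  obtain ⟨⟨_, k, rfl⟩, hk⟩ := (IsLocalization.map_eq_zero_iff (Submonoid.powers b) Γ(X, X.basicOpen b) a).mp h0
  exact ⟨k, hk⟩

/-- Schematic dominance can be checked on affine opens, with affine test morphisms. -/
theorem schDom_of_local {X : Scheme.{u}} {ι : Type u} {Z : ι → Scheme.{u}} (f : ∀ i, Z i ⟶ X)
    (H : ∀ x : X, ∃ (U : X.Opens) (hU : IsAffineOpen U), x ∈ U ∧ ∀ h y : Γ(X, U),
      (∀ (i : ι) (C : CommRingCat.{u}) (φ : Γ(X, U) ⟶ C) (m : Spec C ⟶ Z i),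
        m ≫ f i = Spec.map φ ≫ hU.fromSpec → ∃ n : ℕ, φ (h ^ n * y) = 0) →
      ∃ n : ℕ, h ^ n * y = 0) : SchDom f := by
  intro V t ht
  refine TopCat.Presheaf.section_ext X.sheaf _ _ _ fun x hx => ?_
  obtain ⟨U, hU, hxU, HU⟩ := H x
  obtain ⟨g, hgV, hxg⟩ := hU.exists_basicOpen_le (V := V) ⟨x, hx⟩ hxU
  haveI := hU.isLocalization_basicOpen g
  let t' := X.presheaf.map (homOfLE hgV).op t
  obtain ⟨⟨y, ⟨_, n₀, rfl⟩⟩, hy⟩ := IsLocalization.surj (Submonoid.powers g) t'
  have ht' : t' = 0 := by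
    obtain ⟨n, hn⟩ := HU g y fun i C φ m hm => by
      let q := m ≫ f i
      have h1 : q.app V t = 0 :=
        (ConcreteCategory.congr_hom (Scheme.Hom.comp_app m (f i) V) t).trans
          ((congrArg (m.app _) (ht i)).trans (map_zero _))
      have hUtop : (⊤ : (Spec C).Opens) ≤ q ⁻¹ᵁ U := fun p _ => by
        have : (m ≫ f i) p ∈ U := by
          rw [hm, Scheme.Hom.comp_apply]
          exact hU.range_fromSpec.le ⟨_, rfl⟩
        exact this
      let ψ := q.appLE U ⊤ hUtop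
      have hψ : ψ ≫ (Scheme.ΓSpecIso C).hom = φ := by
        have h2 : ∀ (q' : Spec C ⟶ X) (e : (⊤ : (Spec C).Opens) ≤ q' ⁻¹ᵁ U), q' = Spec.map φ ≫ hU.fromSpec →
            q'.appLE U ⊤ e ≫ (Scheme.ΓSpecIso C).hom = φ := by
          rintro _ e rfl
          rw [Scheme.Hom.comp_appLE, hU.fromSpec_app_self]
          simp only [Category.assoc, Scheme.Hom.map_appLE_assoc]
          have h3 : ∀ e', (Spec.map φ).appLE ⊤ ⊤ e' = (Spec.map φ).appTop := fun e' => by
            rw [Scheme.Hom.appTop, Scheme.Hom.app_eq_appLE]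
            rfl
          rw [h3]
          exact (congrArg ((Scheme.ΓSpecIso _).inv ≫ ·) (Scheme.ΓSpecIso_naturality φ)).trans (Iso.inv_hom_id_assoc _ _)
        exact h2 q hUtop hm
      haveI := (isAffineOpen_top (Spec C)).isLocalization_basicOpen (ψ g)
      have h3 : algebraMap Γ(Spec C, ⊤) Γ(Spec C, (Spec C).basicOpen (ψ g)) (ψ y) = 0 := by
        have hleg : (Spec C).basicOpen (ψ g) ≤ q ⁻¹ᵁ X.basicOpen g := by
          rw [Scheme.preimage_basicOpen]
          exact ((Spec C).basicOpen_res (q.app U g) (homOfLE hUtop).op).trans_le inf_le_right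
        have h4 : q.appLE (X.basicOpen g) _ hleg t' = 0 := by
          show (X.presheaf.map (homOfLE hgV).op ≫ q.appLE (X.basicOpen g) _ hleg) t = 0
          rw [Scheme.Hom.map_appLE, Scheme.Hom.appLE, CommRingCat.comp_apply, h1, map_zero]
        have h5 := congrArg (q.appLE (X.basicOpen g) _ hleg) hy
        rw [map_mul, h4, zero_mul] at h5
        refine Eq.trans ?_ h5.symm
        show (q.appLE U ⊤ hUtop ≫ (Spec C).presheaf.map (homOfLE le_top).op) y =
          (X.presheaf.map (homOfLE (X.basicOpen_le g)).op ≫ q.appLE (X.basicOpen g) _ hleg) y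
        rw [Scheme.Hom.map_appLE, Scheme.Hom.appLE_map]
      obtain ⟨⟨_, n, rfl⟩, hn⟩ := (IsLocalization.map_eq_zero_iff (Submonoid.powers (ψ g)) _ _).mp h3
      refine ⟨n, ?_⟩
      rw [← hψ, CommRingCat.comp_apply, map_mul ψ.hom, map_pow ψ.hom]
      exact (congrArg (Scheme.ΓSpecIso C).hom hn).trans (map_zero _)
    have h6 : algebraMap Γ(X, U) Γ(X, X.basicOpen g) y = 0 :=
      (IsLocalization.map_eq_zero_iff (Submonoid.powers g) _ _).mpr ⟨⟨_, n, rfl⟩, hn⟩
    simp only [h6] at hy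
    exact (IsLocalization.map_units Γ(X, X.basicOpen g) (⟨g ^ n₀, n₀, rfl⟩ : Submonoid.powers g)).mul_left_eq_zero.mp hy
  refine Eq.trans ?_ (map_zero _).symm
  refine (TopCat.Presheaf.germ_res_apply X.presheaf (homOfLE hgV) x hxg _).symm.trans ?_
  exact (congrArg (X.presheaf.germ _ x hxg) ht').trans (map_zero _)

end Groth.FlatDescent.Dom
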